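import Cfsg.Agent.S0205
import Cfsg.Agent.Lib.Involution.ZStar.Main
import Cfsg.Agent.Lib.Components.Constrained
import Cfsg.Agent.Lib.Components.Signalizer.Basic
import Cfsg.Agent.Lib.Solvable.Cores
import Cfsg.Agent.Lib.Coprime.SchurZassenhaus

/-!
Strongly closed elementary abelian central subgroups whose automizer commutes with an
automorphism of order three without fixed points: setup.
-/

set_option autoImplicit false
set_option linter.unusedSectionVars false
set_option linter.style.haveILetI false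

namespace CfsgLib.OrbitClosed

open Subgroup CfsgLib.Solvable

universe u

/-- `V` is a strongly closed elementary abelian subgroup of the centre of a Sylow 2-subgroup, `s`
an automorphism of `V` of order three without fixed points commuting with the automizer, and `R`
an invariant set meeting every hyperplane, whose members have solvable centralisers. -/
structure Data {H : Type u} [Group H] (P : Sylow 2 H) (V : Subgroup H) (R : Set H) (s : H → H) :
    Prop where
  le : V ≤ (P : Subgroup H)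
  cen : (P : Subgroup H) ≤ centralizer (V : Set H)
  elem : Cfsg.IsElementaryAbelian 2 V
  closed : ∀ v ∈ V, ∀ g : H, g * v * g⁻¹ ∈ (P : Subgroup H) → g * v * g⁻¹ ∈ V
  sub : ∀ r ∈ R, r ∈ V ∧ r ≠ 1
  solv : ∀ r ∈ R, Group.IsSolvable (centralizer ({r} : Set H))
  hyper : ∀ U : Subgroup H, U ≤ V → U.relIndex V ≤ 2 → ∃ r ∈ R, r ∈ U
  three : ¬ 3 ∣ Nat.card H
  maps : ∀ v ∈ V, s v ∈ V
  mul : ∀ v ∈ V, ∀ w ∈ V, s (v * w) = s v * s w
  cube : ∀ v ∈ V, s (s (s v)) = v
  fixed : ∀ v ∈ V, s v = v → v = 1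
  comm : ∀ g ∈ normalizer (V : Set H), ∀ v ∈ V, s (g * v * g⁻¹) = g * s v * g⁻¹
  invR : ∀ r ∈ R, s r ∈ R

variable {H : Type u} [Group H] [Finite H]

theorem conj_eq_iff {g v : H} : g * v * g⁻¹ = v ↔ g * v = v * g := by
  rw [mul_inv_eq_iff_eq_mul]

theorem mem_centralizer_one_iff {g v : H} :
    g ∈ centralizer ({v} : Set H) ↔ g * v * g⁻¹ = v := by
  rw [mem_centralizer_singleton_iff, conj_eq_iff]

theorem mem_normalizer_of_mapsTo {V : Subgroup H} {g : H} (h : ∀ v ∈ V, g * v * g⁻¹ ∈ V) :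
    g ∈ normalizer (V : Set H) :=
  mem_normalizer_iff_map_conj_eq.2 (eq_of_le_of_card_ge (Coprime.conj_map_le_iff.2 h)
    (Coprime.card_conj_map V g).ge)

theorem normal_of_mapsTo {V : Subgroup H} (h : ∀ g : H, ∀ v ∈ V, g * v * g⁻¹ ∈ V) : V.Normal :=
  ⟨fun v hv g => h g v hv⟩

/-- A normal subgroup of odd order of a group with trivial `2'`-core is trivial. -/
theorem eq_bot_of_odd_normal (hO : Cfsg.pPrimeCore 2 H = ⊥) (N : Subgroup H) [N.Normal]
    (hN : ¬ 2 ∣ Nat.card N) : N = ⊥ :=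
  eq_bot_iff.2 (hO ▸ Cores.le_pPrimeCore
    ((Nat.prime_two.coprime_iff_not_dvd.2 hN).symm))

theorem mem_smul_sylow {c x : H} {S : Sylow 2 H} :
    x ∈ ((c • S : Sylow 2 H) : Subgroup H) ↔ c⁻¹ * x * c ∈ (S : Subgroup H) := by
  rw [Sylow.smul_def, Sylow.pointwise_smul_def, Subgroup.mem_pointwise_smul_iff_inv_smul_mem,
    MulAut.smul_def, MulAut.inv_apply, MulAut.conj_symm_apply]

/-- An element of 2-power order is conjugate into any Sylow 2-subgroup. -/
theorem exists_conj_mem_sylow (P : Sylow 2 H) {x : H} {k : ℕ} (hx : x ^ 2 ^ k = 1) :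
    ∃ c : H, c * x * c⁻¹ ∈ (P : Subgroup H) := by
  haveI : Fact (Nat.Prime 2) := ⟨Nat.prime_two⟩
  obtain ⟨i, -, hi⟩ := (Nat.dvd_prime_pow Nat.prime_two).1 (orderOf_dvd_of_pow_eq_one hx)
  obtain ⟨S, hS⟩ := (IsPGroup.of_card (G := zpowers x) (n := i)
    (by rw [Nat.card_zpowers, hi])).exists_le_sylow
  obtain ⟨c, rfl⟩ := MulAction.exists_smul_eq H S P
  refine ⟨c, ?_⟩
  rw [mem_smul_sylow, show c⁻¹ * (c * x * c⁻¹) * c = x by group]
  exact hS (mem_zpowers x)

variable {P : Sylow 2 H} {V : Subgroup H} {R : Set H} {s : H → H}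

theorem Data.sq (d : Data P V R s) {v : H} (hv : v ∈ V) : v * v = 1 := by
  rw [← pow_two]; exact d.elem.2 v hv

theorem Data.inv_eq (d : Data P V R s) {v : H} (hv : v ∈ V) : v⁻¹ = v :=
  inv_eq_of_mul_eq_one_right (d.sq hv)

theorem Data.vcomm (d : Data P V R s) {v w : H} (hv : v ∈ V) (hw : w ∈ V) : v * w = w * v :=
  Components.Signalizer.commute_of_mem d.elem hv hw

theorem Data.orderOf_eq_two (d : Data P V R s) {v : H} (hv : v ∈ V) (h : v ≠ 1) :
    orderOf v = 2 :=
  haveI : Fact (Nat.Prime 2) := ⟨Nat.prime_two⟩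
  orderOf_eq_prime (d.elem.2 v hv) h

theorem Data.le_centralizer_singleton (d : Data P V R s) {v : H} (hv : v ∈ V) :
    (P : Subgroup H) ≤ centralizer ({v} : Set H) := fun x hx =>
  mem_centralizer_singleton_iff.2 (mem_centralizer_iff.1 (d.cen hx) v hv).symm

theorem Data.v_le_centralizer (d : Data P V R s) {v : H} (hv : v ∈ V) :
    V ≤ centralizer ({v} : Set H) := d.le.trans (d.le_centralizer_singleton hv)

theorem Data.normalizer_sylow_le (d : Data P V R s) {g : H}
    (hg : g ∈ normalizer ((P : Subgroup H) : Set H)) : g ∈ normalizer (V : Set H) :=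
  mem_normalizer_of_mapsTo fun v hv => d.closed v hv g ((mem_normalizer_iff.1 hg v).1 (d.le hv))

theorem Data.sylow_le_normalizer (d : Data P V R s) :
    (P : Subgroup H) ≤ normalizer (V : Set H) :=
  d.cen.trans (centralizer_le_normalizer _)

theorem Data.conj_mem (d : Data P V R s) {g v : H} (hg : g ∈ normalizer (V : Set H))
    (hv : v ∈ V) : g * v * g⁻¹ ∈ V :=
  (mem_normalizer_iff.1 hg v).1 hv

/-- Burnside: conjugation between elements of `V` is done in its normaliser. -/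
theorem Data.burnside (d : Data P V R s) {v : H} (hv : v ∈ V) {g : H}
    (hg : g * v * g⁻¹ ∈ V) :
    ∃ n ∈ normalizer (V : Set H), n * v * n⁻¹ = g * v * g⁻¹ := by
  haveI : Fact (Nat.Prime 2) := ⟨Nat.prime_two⟩
  set C := centralizer ({v} : Set H)
  let Q : Sylow 2 C := P.subtype (d.le_centralizer_singleton hv)
  have hQ : ((g⁻¹ • P : Sylow 2 H) : Subgroup H) ≤ C := by
    intro x hx
    rw [mem_smul_sylow, inv_inv] at hx
    have h := mem_centralizer_singleton_iff.1 (d.le_centralizer_singleton hg hx)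
    refine mem_centralizer_singleton_iff.2 ?_
    calc x * v = g⁻¹ * ((g * x * g⁻¹) * (g * v * g⁻¹)) * g := by group
      _ = g⁻¹ * ((g * v * g⁻¹) * (g * x * g⁻¹)) * g := by rw [h]
      _ = v * x := by group
  let Q' : Sylow 2 C := (g⁻¹ • P).subtype hQ
  obtain ⟨c, hc⟩ := MulAction.exists_smul_eq C Q Q'
  refine ⟨g * c, d.normalizer_sylow_le ?_, ?_⟩
  · refine mem_normalizer_iff_map_conj_eq.2 (eq_of_le_of_card_ge
      (Coprime.conj_map_le_iff.2 fun x hx => ?_) (Coprime.card_conj_map _ _).ge)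
    have hxC := d.le_centralizer_singleton hv hx
    have h2 : c * ⟨x, hxC⟩ * c⁻¹ ∈ (Q' : Subgroup C) := by
      rw [← hc, mem_smul_sylow, show c⁻¹ * (c * ⟨x, hxC⟩ * c⁻¹) * c = (⟨x, hxC⟩ : C) by group]
      exact hx
    have h3 : (c : H) * x * (c : H)⁻¹ ∈ ((g⁻¹ • P : Sylow 2 H) : Subgroup H) := h2
    rw [mem_smul_sylow] at h3
    rwa [show g⁻¹⁻¹ * ((c : H) * x * (c : H)⁻¹) * g⁻¹ = g * c * x * (g * c)⁻¹ by group] at h3
  · have hcv : (c : H) * v * (c : H)⁻¹ = v := mem_centralizer_one_iff.1 c.2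
    calc g * c * v * (g * c)⁻¹ = g * ((c : H) * v * (c : H)⁻¹) * g⁻¹ := by group
      _ = _ := by rw [hcv]

/-- An element of `V` fixed by the normaliser of `V` is central modulo the core. -/
theorem Data.star (d : Data P V R s) {v : H} (hv : v ∈ V)
    (hfix : ∀ g ∈ normalizer (V : Set H), g * v * g⁻¹ = v) (g : H) :
    v * g * v⁻¹ * g⁻¹ ∈ Cfsg.pPrimeCore 2 H := by
  by_cases h1 : v = 1
  · subst h1; simp
  obtain ⟨N, hN, hodd, hmem⟩ := Involution.ZStar.exists_odd_normal_of_sylow P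
    (d.orderOf_eq_two hv h1) (d.le hv) fun g hg => by
      obtain ⟨n, hn, he⟩ := d.burnside hv (d.closed v hv g hg)
      rw [← he, hfix n hn]
  haveI := hN
  exact Cores.le_pPrimeCore (Nat.coprime_two_right.2 hodd) (hmem g)

theorem Data.mem_center (d : Data P V R s) (hO : Cfsg.pPrimeCore 2 H = ⊥) {v : H} (hv : v ∈ V)
    (hfix : ∀ g ∈ normalizer (V : Set H), g * v * g⁻¹ = v) : v ∈ center H :=
  mem_center_iff.2 fun g => by
    have h := d.star hv hfix g
    rw [hO, mem_bot, mul_inv_eq_one, mul_inv_eq_iff_eq_mul] at h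
    exact h.symm

/-- The data pass to a subgroup containing `V`. -/
theorem Data.restrict (d : Data P V R s) (K : Subgroup H) (hVK : V ≤ K) :
    ∃ (PK : Sylow 2 K) (s' : K → K), Data PK (V.subgroupOf K) {r : K | (r : H) ∈ R} s' := by
  classical
  haveI : Fact (Nat.Prime 2) := ⟨Nat.prime_two⟩
  obtain ⟨PK, hPK⟩ :=
    ((P.2.to_le d.le).comap_of_injective K.subtype K.subtype_injective :
      IsPGroup 2 ↥(V.subgroupOf K)).exists_le_sylow
  obtain ⟨Q, hQ⟩ := (PK.2.map K.subtype).exists_le_sylow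
  obtain ⟨g, hg⟩ := MulAction.exists_smul_eq H Q P
  have hP : ∀ x : H, x ∈ (Q : Subgroup H) → g * x * g⁻¹ ∈ (P : Subgroup H) := by
    intro x hx
    rwa [← hg, mem_smul_sylow, show g⁻¹ * (g * x * g⁻¹) * g = x by group]
  have hgV : g ∈ normalizer (V : Set H) := mem_normalizer_of_mapsTo fun v hv =>
    d.closed v hv g (hP v (hQ ⟨⟨v, hVK hv⟩, hPK hv, rfl⟩))
  let s' : K → K := fun x => if h : s (x : H) ∈ K then ⟨s x, h⟩ else 1
  have hs' : ∀ x : K, (x : H) ∈ V → (s' x : H) = s x := fun x hx => by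
    simp only [s', dif_pos (hVK (d.maps _ hx))]
  have hN : ∀ k : K, k ∈ normalizer (V.subgroupOf K : Set K) →
      (k : H) ∈ normalizer (V : Set H) := fun k hk =>
    mem_normalizer_of_mapsTo fun v hv => (mem_normalizer_iff.1 hk ⟨v, hVK hv⟩).1 hv
  refine ⟨PK, s', hPK, fun x hx => ?_, ⟨?_, fun a ha => ?_⟩, fun v hv k hk => ?_,
    fun r hr => ⟨(d.sub _ hr).1, fun h => (d.sub _ hr).2 (by rw [h]; rfl)⟩, fun r hr => ?_,
    fun U hU hi => ?_, fun h => d.three (h.trans (card_subgroup_dvd_card K)), fun v hv => ?_,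
    fun v hv w hw => ?_, fun v hv => ?_, fun v hv h => ?_, fun k hk v hv => ?_, fun r hr => ?_⟩
  · refine mem_centralizer_iff.2 fun v hv => Subtype.ext ?_
    have h : g * (v : H) * g⁻¹ * (g * (x : H) * g⁻¹) = g * (x : H) * g⁻¹ * (g * (v : H) * g⁻¹) :=
      mem_centralizer_iff.1 (d.cen (hP _ (hQ ⟨x, hx, rfl⟩))) _ (d.conj_mem hgV hv)
    show (v : H) * x = x * v
    calc (v : H) * x = g⁻¹ * ((g * v * g⁻¹) * (g * x * g⁻¹)) * g := by group
      _ = g⁻¹ * ((g * x * g⁻¹) * (g * v * g⁻¹)) * g := by rw [← h]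
      _ = _ := by group
  · exact ⟨⟨fun a b => Subtype.ext (Subtype.ext (d.vcomm a.2 b.2))⟩⟩
  · exact Subtype.ext (by simpa using d.elem.2 _ ha)
  · rw [mem_subgroupOf]
    have h1 : g * ((k : H) * (v : H) * (k : H)⁻¹) * g⁻¹ ∈ (P : Subgroup H) :=
      hP _ (hQ ⟨_, hk, rfl⟩)
    rw [show g * ((k : H) * (v : H) * (k : H)⁻¹) * g⁻¹ =
      g * (k : H) * (v : H) * (g * (k : H))⁻¹ by group] at h1
    have h2 : g * (k : H) * (v : H) * (g * (k : H))⁻¹ ∈ V := d.closed _ hv _ h1
    have h3 := d.conj_mem (inv_mem hgV) h2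
    rw [show g⁻¹ * (g * (k : H) * (v : H) * (g * (k : H))⁻¹) * g⁻¹⁻¹ =
      (k : H) * v * (k : H)⁻¹ by group] at h3
    simpa using h3
  · haveI := d.solv _ hr
    let f : centralizer ({r} : Set K) →* centralizer ({(r : H)} : Set H) :=
      (K.subtype.comp (centralizer ({r} : Set K)).subtype).codRestrict _ fun x =>
        mem_centralizer_singleton_iff.2 (congrArg Subtype.val (mem_centralizer_singleton_iff.1 x.2))
    exact Group.isSolvable_of_isSolvable_injective (f := f)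
      fun a b h => Subtype.ext (Subtype.ext (congrArg Subtype.val h :))
  · obtain ⟨r, hr, hrU⟩ := d.hyper (U.map K.subtype)
      (by rintro _ ⟨u, hu, rfl⟩; exact hU hu)
      (by
        rwa [show V = (V.subgroupOf K).map K.subtype by
          rw [map_subgroupOf_eq_of_le hVK], relIndex_map_map_of_injective _ _ K.subtype_injective])
    obtain ⟨u, hu, rfl⟩ := hrU
    exact ⟨u, hr, hu⟩
  · rw [mem_subgroupOf, hs' v hv]; exact d.maps _ hv
  · refine Subtype.ext ?_
    rw [Subgroup.coe_mul, hs' v hv, hs' w hw, hs' (v * w) (mul_mem hv hw : v * w ∈ V.subgroupOf K)]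
    exact d.mul _ hv _ hw
  · refine Subtype.ext ?_
    have h1 : (s' v : H) ∈ V := by rw [hs' v hv]; exact d.maps _ hv
    have h2 : (s' (s' v) : H) ∈ V := by rw [hs' _ h1]; exact d.maps _ h1
    rw [hs' _ h2, hs' _ h1, hs' v hv]
    exact d.cube _ hv
  · refine Subtype.ext (d.fixed _ hv ?_)
    rw [← hs' v hv, h]
  · refine Subtype.ext ?_
    have h1 : ((k * v * k⁻¹ : K) : H) ∈ V := d.conj_mem (hN k hk) hv
    rw [hs' _ h1]
    simp only [Subgroup.coe_mul, InvMemClass.coe_inv, hs' v hv]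
    exact d.comm _ (hN k hk) _ hv
  · show (s' r : H) ∈ R
    rw [hs' r (d.sub _ hr).1]
    exact d.invR _ hr

/-- The data pass to the quotient by a normal subgroup of odd order. -/
theorem Data.quot (d : Data P V R s) (N : Subgroup H) [N.Normal] (hN : ¬ 2 ∣ Nat.card N) :
    ∃ (P' : Sylow 2 (H ⧸ N)) (s' : H ⧸ N → H ⧸ N),
      Data P' (V.map (QuotientGroup.mk' N)) (QuotientGroup.mk' N '' R) s' := by
  classical
  haveI : Fact (Nat.Prime 2) := ⟨Nat.prime_two⟩
  set π := QuotientGroup.mk' N with hπdef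
  have hπ : Function.Surjective π := QuotientGroup.mk'_surjective N
  have hcop : (Nat.card N).Coprime 2 := (Nat.prime_two.coprime_iff_not_dvd.2 hN).symm
  have hker : ∀ v ∈ (P : Subgroup H), π v = 1 → v = 1 := fun v hv h => by
    have h1 : v ∈ (P : Subgroup H) ⊓ N := ⟨hv, (QuotientGroup.eq_one_iff v).1 h⟩
    rwa [Components.inf_eq_bot_of_pGroup_coprime P.2 hcop, mem_bot] at h1
  have hinj : ∀ v ∈ (P : Subgroup H), ∀ w ∈ (P : Subgroup H), π v = π w → v = w :=
    fun v hv w hw h => inv_mul_eq_one.1 (hker _ (mul_mem (inv_mem hv) hw)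
      (by rw [map_mul, map_inv, h, inv_mul_cancel]))
  let P' := P.mapSurjective hπ
  have hP' : (P' : Subgroup (H ⧸ N)) = (P : Subgroup H).map π := Sylow.coe_mapSurjective hπ P
  have lift : ∀ (g v : H), v ∈ V → π (g * v * g⁻¹) ∈ (P : Subgroup H).map π →
      ∃ g' : H, π g' = π g ∧ g' * v * g'⁻¹ ∈ V := by
    rintro g v hv ⟨p, hp, hpe⟩
    by_cases hv1 : v = 1
    · exact ⟨g, rfl, by subst hv1; simp⟩
    have hmap : (zpowers (g * v * g⁻¹)).map π = (zpowers p).map π := by
      rw [MonoidHom.map_zpowers, MonoidHom.map_zpowers, hpe]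
    have hpv : p * p = 1 := hker _ (mul_mem hp hp) (by
      rw [map_mul, hpe, ← map_mul, show g * v * g⁻¹ * (g * v * g⁻¹) = g * (v * v) * g⁻¹ by group,
        d.sq hv, mul_one, mul_inv_cancel, map_one])
    have hp1 : p ≠ 1 := fun h => hv1 (hker v (d.le hv) (by
      rw [h, map_one, map_mul, map_mul, map_inv] at hpe
      have := hpe.symm
      rwa [mul_inv_eq_one, mul_eq_left] at this))
    have ho : orderOf p = 2 := orderOf_eq_prime (by rw [pow_two, hpv]) hp1
    have ho' : orderOf (g * v * g⁻¹) = 2 := by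
      rw [← MulAut.conj_apply, MulEquiv.orderOf_eq, d.orderOf_eq_two hv hv1]
    obtain ⟨n, hn, he⟩ := Coprime.exists_conj_eq (N := N) (H := zpowers (g * v * g⁻¹))
      (K := zpowers p) (.inr (Group.isSolvable_of_comm fun x y => mul_comm' x y))
      (by rw [normalizer_eq_top]; exact le_top) (by rw [normalizer_eq_top]; exact le_top)
      (zpowers_le.2 (by
        have h : (g * v * g⁻¹) * p⁻¹ ∈ N := by
          rw [← QuotientGroup.eq_one_iff, show ((g * v * g⁻¹ * p⁻¹ : H) : H ⧸ N) =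
            π (g * v * g⁻¹ * p⁻¹) from rfl, map_mul, map_inv, hpe, mul_inv_cancel]
        have := mul_mem_sup h (mem_zpowers p)
        rwa [inv_mul_cancel_right] at this))
      (by rw [Nat.card_zpowers, Nat.card_zpowers, ho, ho'])
      (by rw [Nat.card_zpowers, ho']; exact hcop)
    refine ⟨n * g, ?_, ?_⟩
    · rw [map_mul, show π n = 1 from (QuotientGroup.eq_one_iff n).2 hn, one_mul]
    have hmem : n * (g * v * g⁻¹) * n⁻¹ ∈ zpowers p := he.le ⟨_, mem_zpowers _, rfl⟩
    refine d.closed v hv _ ?_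
    rw [show n * g * v * (n * g)⁻¹ = n * (g * v * g⁻¹) * n⁻¹ by group]
    exact (zpowers_le.2 hp) hmem
  have liftN : ∀ gb ∈ normalizer (V.map π : Set (H ⧸ N)), ∃ n ∈ normalizer (V : Set H),
      π n = gb := by
    intro gb hgb
    obtain ⟨g, rfl⟩ := hπ gb
    have hle : V.map (MulAut.conj g).toMonoidHom ≤ N ⊔ V :=
      Coprime.conj_map_le_iff.2 fun v hv => by
        obtain ⟨w, hw, hwe⟩ := (mem_normalizer_iff.1 hgb (π v)).1 ⟨v, hv, rfl⟩
        have h : g * v * g⁻¹ * w⁻¹ ∈ N := by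
          rw [← QuotientGroup.eq_one_iff, show ((g * v * g⁻¹ * w⁻¹ : H) : H ⧸ N) =
            π (g * v * g⁻¹ * w⁻¹) from rfl, map_mul, map_mul, map_mul, map_inv, map_inv, hwe]
          exact mul_inv_cancel _
        have := mul_mem_sup h hw
        rwa [inv_mul_cancel_right] at this
    obtain ⟨n, hn, he⟩ := Coprime.exists_conj_eq (N := N) (H := V.map (MulAut.conj g).toMonoidHom)
      (K := V) (.inr (by
        haveI := ((P.2.to_le d.le).map (MulAut.conj g).toMonoidHom).isNilpotent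
        infer_instance))
      (by rw [normalizer_eq_top]; exact le_top) (by rw [normalizer_eq_top]; exact le_top) hle
      (Coprime.card_conj_map V g)
      (Components.coprime_card_of_isPGroup ((P.2.to_le d.le).map _) hcop).symm
    rw [Coprime.conj_map_map] at he
    refine ⟨n * g, mem_normalizer_iff_map_conj_eq.2 he, ?_⟩
    rw [map_mul, show π n = 1 from (QuotientGroup.eq_one_iff n).2 hn, one_mul]
  let lv : H ⧸ N → H := fun x => if h : ∃ v ∈ V, π v = x then h.choose else 1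
  have hlv : ∀ v ∈ V, lv (π v) = v := fun v hv => by
    have h : ∃ w ∈ V, π w = π v := ⟨v, hv, rfl⟩
    simp only [lv, dif_pos h]
    exact hinj _ (d.le h.choose_spec.1) v (d.le hv) h.choose_spec.2
  refine ⟨P', fun x => π (s (lv x)), hP' ▸ map_mono d.le, ?_, ⟨?_, ?_⟩, ?_, ?_, ?_,
    fun U hU hi => ?_, fun h => d.three (h.trans (Subgroup.card_quotient_dvd_card N)), ?_, ?_,
    ?_, ?_, ?_, ?_⟩
  · rw [hP']
    rintro _ ⟨p, hp, rfl⟩
    refine mem_centralizer_iff.2 ?_
    rintro _ ⟨v, hv, rfl⟩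
    rw [← map_mul, ← map_mul, mem_centralizer_iff.1 (d.cen hp) v hv]
  · refine ⟨⟨?_⟩⟩
    rintro ⟨_, a, ha, rfl⟩ ⟨_, b, hb, rfl⟩
    exact Subtype.ext (by show π a * π b = π b * π a; rw [← map_mul, d.vcomm ha hb, map_mul])
  · rintro _ ⟨a, ha, rfl⟩
    rw [← map_pow, d.elem.2 a ha, map_one]
  · rintro _ ⟨v, hv, rfl⟩ gb h
    obtain ⟨g, rfl⟩ := hπ gb
    rw [← map_inv, ← map_mul, ← map_mul, hP'] at h
    obtain ⟨g', hg', hmem⟩ := lift g v hv h
    rw [← hg', ← map_inv, ← map_mul, ← map_mul]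
    exact ⟨_, hmem, rfl⟩
  · rintro _ ⟨r, hr, rfl⟩
    exact ⟨⟨r, (d.sub r hr).1, rfl⟩, fun h => (d.sub r hr).2 (hker r (d.le (d.sub r hr).1) h)⟩
  · rintro _ ⟨r, hr, rfl⟩
    haveI := d.solv r hr
    have hc := Components.centralizer_map_mk (p := 2) hcop
      (P.2.to_le (zpowers_le.2 (d.le (d.sub r hr).1)))
    have hle : centralizer ({π r} : Set (H ⧸ N)) ≤ (centralizer ({r} : Set H)).map π := by
      intro x hx
      have hx' : x ∈ centralizer (((zpowers r).map π : Subgroup (H ⧸ N)) : Set (H ⧸ N)) := by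
        rw [MonoidHom.map_zpowers]
        refine mem_centralizer_iff.2 fun y hy => ?_
        obtain ⟨i, rfl⟩ := mem_zpowers_iff.1 hy
        exact (Commute.zpow_left (show Commute (π r) x from
          mem_centralizer_iff.1 hx _ rfl) i).eq
      rw [hc] at hx'
      exact map_mono (centralizer_le (Set.singleton_subset_iff.2 (mem_zpowers r))) hx'
    exact Coprime.isSolvable_of_le hle
      (Group.isSolvable_of_surjective (MonoidHom.subgroupMap_surjective π _))
  · obtain ⟨r, hr, hrU⟩ := d.hyper (V ⊓ U.comap π) inf_le_left (by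
      rw [inf_relIndex_left, relIndex_comap]
      exact hi)
    exact ⟨π r, ⟨r, hr, rfl⟩, hrU.2⟩
  · rintro _ ⟨v, hv, rfl⟩
    rw [hlv v hv]
    exact ⟨_, d.maps v hv, rfl⟩
  · rintro _ ⟨v, hv, rfl⟩ _ ⟨w, hw, rfl⟩
    rw [← map_mul, hlv v hv, hlv w hw, hlv _ (mul_mem hv hw), d.mul v hv w hw, map_mul]
  · rintro _ ⟨v, hv, rfl⟩
    rw [hlv v hv, hlv _ (d.maps v hv), hlv _ (d.maps _ (d.maps v hv)), d.cube v hv]
  · rintro _ ⟨v, hv, rfl⟩ h
    rw [hlv v hv] at h
    rw [d.fixed v hv (hinj _ (d.le (d.maps v hv)) v (d.le hv) h), map_one]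
  · rintro gb hgb _ ⟨v, hv, rfl⟩
    obtain ⟨n, hn, rfl⟩ := liftN gb hgb
    simp only [← map_inv, ← map_mul]
    rw [hlv _ (d.conj_mem hn hv), hlv v hv, d.comm n hn v hv]
  · rintro _ ⟨r, hr, rfl⟩
    rw [hlv r (d.sub r hr).1]
    exact ⟨_, d.invR r hr, rfl⟩

end CfsgLib.OrbitClosed
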