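import Cfsg.Agent.Lib.OrbitClosed.Basic
import Cfsg.Agent.Lib.Solvable.FPFOperators.FaithfulModule
import Cfsg.Agent.Lib.Coprime.OneClassInvolutions
import Cfsg.Agent.Lib.PGroup.Frattini
import Mathlib.GroupTheory.Perm.Cycle.Type

/-!
An automorphism of order three with fixed points of odd order on a group of order prime to three:
the solvable case.
-/

set_option autoImplicit false
set_option linter.unusedSectionVars false
set_option linter.style.haveILetI false
set_option linter.unusedVariables false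

namespace CfsgLib.OrbitClosed

open Subgroup CfsgLib.Solvable
open scoped commutatorElement Pointwise

universe u

/-- `σ` cubes to the identity, `3` does not divide `|G|` and fixed points have odd order. -/
structure Fix3 (G : Type u) [Group G] (σ : MulAut G) : Prop where
  three : ¬ 3 ∣ Nat.card G
  cube : ∀ g : G, σ (σ (σ g)) = g
  odd : ∀ g : G, σ g = g → Odd (orderOf g)

variable {G : Type u} [Group G] [Finite G] {σ : MulAut G}

/-- A function of order three on a finite set of order prime to three has a fixed point. -/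
theorem exists_fixed {α : Type*} [Finite α] (f : α → α) (hf : ∀ a, f (f (f a)) = a)
    (h : ¬ 3 ∣ Nat.card α) : ∃ a, f a = a := by
  haveI : Fintype α := Fintype.ofFinite α
  haveI : Fact (Nat.Prime 3) := ⟨Nat.prime_three⟩
  rw [Nat.card_eq_fintype_card] at h
  obtain ⟨a, ha⟩ := Equiv.Perm.exists_fixed_point_of_prime (n := 1) h
    (σ := (⟨f, fun a => f (f a), hf, hf⟩ : Equiv.Perm α)) (by
      refine Equiv.ext fun a => ?_
      simp only [pow_one, pow_succ, pow_zero, one_mul, Equiv.Perm.mul_apply, Equiv.Perm.one_apply]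
      exact hf a)
  exact ⟨a, ha⟩

theorem Fix3.mem_of_invariant (h : Fix3 G σ) {N : Subgroup G} (hN : ∀ x ∈ N, σ x ∈ N) {x : G}
    (hx : σ x ∈ N) : x ∈ N := h.cube x ▸ hN _ (hN _ hx)

/-- An invariant coset contains a fixed point. -/
theorem Fix3.exists_fixed_coset (h : Fix3 G σ) (N : Subgroup G) (hN : ∀ x ∈ N, σ x ∈ N) {g : G}
    (hg : g⁻¹ * σ g ∈ N) : ∃ x : G, σ x = x ∧ g⁻¹ * x ∈ N := by
  let α := {x : G // g⁻¹ * x ∈ N}
  have hσ : ∀ x : G, g⁻¹ * x ∈ N → g⁻¹ * σ x ∈ N := fun x hx => by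
    have h1 := mul_mem hg (hN _ hx)
    rwa [map_mul, map_inv, ← mul_assoc, mul_assoc g⁻¹ (σ g) (σ g)⁻¹, mul_inv_cancel, mul_one] at h1
  have hcard : Nat.card α = Nat.card N := Nat.card_congr
    { toFun := fun x => ⟨g⁻¹ * x, x.2⟩
      invFun := fun n => ⟨g * n, by simp⟩
      left_inv := fun x => Subtype.ext (by simp)
      right_inv := fun n => Subtype.ext (by simp) }
  obtain ⟨⟨x, hx⟩, he⟩ := exists_fixed (fun x : α => (⟨σ x, hσ x x.2⟩ : α))
    (fun x => Subtype.ext (h.cube x)) (hcard ▸ fun hd => h.three (hd.trans (card_subgroup_dvd_card N)))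
  exact ⟨x, congrArg Subtype.val he, hx⟩

/-- The automorphism of an invariant subgroup. -/
def restrictAut (h : Fix3 G σ) (K : Subgroup G) (hK : ∀ x ∈ K, σ x ∈ K) : MulAut K where
  toFun x := ⟨σ x, hK x x.2⟩
  invFun x := ⟨σ (σ x), hK _ (hK x x.2)⟩
  left_inv x := Subtype.ext (h.cube x)
  right_inv x := Subtype.ext (h.cube x)
  map_mul' x y := Subtype.ext (map_mul σ (x : G) y)

theorem Fix3.sub (h : Fix3 G σ) (K : Subgroup G) (hK : ∀ x ∈ K, σ x ∈ K) :
    Fix3 K (restrictAut h K hK) :=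
  ⟨fun hd => h.three (hd.trans (card_subgroup_dvd_card K)), fun x => Subtype.ext (h.cube x),
    fun x hx => by
      rw [← Subgroup.orderOf_coe]
      exact h.odd x (congrArg Subtype.val hx)⟩

theorem Fix3.map_eq (h : Fix3 G σ) {N : Subgroup G} (hN : ∀ x ∈ N, σ x ∈ N) :
    N.map σ.toMonoidHom = N := by
  ext x
  exact ⟨fun ⟨y, hy, e⟩ => e ▸ hN y hy, fun hx => ⟨σ (σ x), hN _ (hN _ hx), h.cube x⟩⟩

/-- The automorphism of the quotient by an invariant normal subgroup. -/
noncomputable def quotAut (h : Fix3 G σ) (N : Subgroup G) [N.Normal] (hN : ∀ x ∈ N, σ x ∈ N) :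
    MulAut (G ⧸ N) :=
  QuotientGroup.congr N N σ (h.map_eq hN)

theorem quotAut_mk (h : Fix3 G σ) (N : Subgroup G) [N.Normal] (hN : ∀ x ∈ N, σ x ∈ N) (g : G) :
    quotAut h N hN (QuotientGroup.mk' N g) = QuotientGroup.mk' N (σ g) := rfl

theorem Fix3.exists_fixed_lift (h : Fix3 G σ) (N : Subgroup G) [N.Normal]
    (hN : ∀ x ∈ N, σ x ∈ N) {y : G ⧸ N} (hy : quotAut h N hN y = y) :
    ∃ x : G, σ x = x ∧ QuotientGroup.mk' N x = y := by
  obtain ⟨g, rfl⟩ := QuotientGroup.mk'_surjective N y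
  rw [quotAut_mk] at hy
  obtain ⟨x, hx, hgx⟩ := h.exists_fixed_coset N hN (g := g) (QuotientGroup.eq.1 hy.symm)
  exact ⟨x, hx, (QuotientGroup.eq.2 hgx).symm⟩

theorem Fix3.quot (h : Fix3 G σ) (N : Subgroup G) [N.Normal] (hN : ∀ x ∈ N, σ x ∈ N) :
    Fix3 (G ⧸ N) (quotAut h N hN) := by
  refine ⟨fun hd => h.three (hd.trans (card_quotient_dvd_card N)), fun y => ?_, fun y hy => ?_⟩
  · obtain ⟨g, rfl⟩ := QuotientGroup.mk'_surjective N y
    rw [quotAut_mk, quotAut_mk, quotAut_mk, h.cube]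
  · obtain ⟨x, hx, rfl⟩ := h.exists_fixed_lift N hN hy
    exact (h.odd x hx).of_dvd_nat (orderOf_map_dvd _ x)

theorem Fix3.invariant_of_char (h : Fix3 G σ) (N : Subgroup G) [hc : N.Characteristic] :
    ∀ x ∈ N, σ x ∈ N := fun x hx =>
  Subgroup.characteristic_iff_map_eq.1 hc σ ▸ ⟨x, hx, rfl⟩

theorem Fix3.invariant_pPrimePCore (h : Fix3 G σ) (p : ℕ) :
    ∀ x ∈ Cfsg.pPrimePCore p G, σ x ∈ Cfsg.pPrimePCore p G := by
  intro x hx
  have h' := h.quot (Cfsg.pPrimeCore p G) (h.invariant_of_char _)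
  have := h'.invariant_of_char (Cfsg.pCore p (G ⧸ Cfsg.pPrimeCore p G)) _ hx
  rwa [quotAut_mk] at this

theorem Fix3.sigma_smul (h : Fix3 G σ) {p : ℕ} [Fact p.Prime] (P : Sylow p G) (x : G) :
    x ∈ ((σ • P : Sylow p G) : Subgroup G) ↔ σ (σ x) ∈ (P : Subgroup G) := by
  rw [Sylow.pointwise_smul_def, Subgroup.mem_pointwise_smul_iff_inv_smul_mem, MulAut.smul_def,
    show σ⁻¹ x = σ (σ x) from σ.injective (by rw [MulAut.apply_inv_self, h.cube])]

/-- There is an invariant Sylow subgroup. -/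
theorem Fix3.exists_sylow (h : Fix3 G σ) (p : ℕ) [Fact p.Prime] :
    ∃ P : Sylow p G, ∀ x ∈ (P : Subgroup G), σ x ∈ (P : Subgroup G) := by
  obtain ⟨P, hP⟩ := exists_fixed (fun P : Sylow p G => σ • P) (fun P => by
    refine Sylow.ext (SetLike.ext fun x => ?_)
    rw [h.sigma_smul, h.sigma_smul, h.sigma_smul]
    simp only [h.cube])
    (fun hd => h.three (hd.trans ((Sylow.card_dvd_index (default : Sylow p G)).trans
      (index_dvd_card _))))
  refine ⟨P, fun x hx => ?_⟩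
  have h1 := h.sigma_smul P (σ x)
  have hP' : σ • P = P := hP
  rw [hP'] at h1
  exact h1.2 (by rw [h.cube]; exact hx)

/-- An element fixing the Fitting subgroup pointwise. -/
theorem Fix3.eq_id_of_fitting (h : Fix3 G σ) [Group.IsSolvable G]
    (hF : ∀ f ∈ Cfsg.fittingSubgroup G, σ f = f) (g : G) : σ g = g := by
  set F := Cfsg.fittingSubgroup G
  haveI : F.Normal := by
    show (Cfsg.fittingSubgroup G).Normal
    rw [Cores.fittingSubgroup_eq_iSup_pCore]; infer_instance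
  have hc : g⁻¹ * σ g ∈ centralizer (F : Set G) := mem_centralizer_iff.2 fun f hf => by
    have h1 := hF _ ((inferInstance : F.Normal).conj_mem f hf g)
    rw [map_mul, map_mul, map_inv, hF f hf] at h1
    calc f * (g⁻¹ * σ g) = g⁻¹ * (g * f * g⁻¹) * σ g := by group
      _ = g⁻¹ * (σ g * f * (σ g)⁻¹) * σ g := by rw [← h1]
      _ = _ := by group
  set f := g⁻¹ * σ g with hfdef
  have hf : σ f = f := hF f (Cores.centralizer_fittingSubgroup_le hc)
  have hσg : σ g = g * f := by rw [hfdef]; group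
  have h3 := h.cube g
  rw [hσg, map_mul, hσg, hf, map_mul, map_mul, hσg, hf] at h3
  have hf3 : f ^ 3 = 1 := by
    rw [mul_assoc, mul_assoc, mul_eq_left] at h3
    rw [pow_three, h3]
  have hf1 : f = 1 := by
    haveI : Fact (Nat.Prime 3) := ⟨Nat.prime_three⟩
    by_contra hne
    exact h.three ((orderOf_eq_prime hf3 hne) ▸ orderOf_dvd_natCard f)
  rw [hσg, hf1, mul_one]

set_option maxHeartbeats 800000 in
/-- With `R = O₂(G)` elementary abelian and self-centralising, `σ` centralises `G / R`. -/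
theorem Fix3.base (h : Fix3 G σ) [Group.IsSolvable G]
    (hR : Cfsg.IsElementaryAbelian 2 (Cfsg.pCore 2 G))
    (hC : centralizer (Cfsg.pCore 2 G : Set G) ≤ Cfsg.pCore 2 G) (g : G) :
    g⁻¹ * σ g ∈ Cfsg.pCore 2 G := by
  haveI : Fact (Nat.Prime 2) := ⟨Nat.prime_two⟩
  set R := Cfsg.pCore 2 G
  have hRinv := h.invariant_of_char R
  have hq := h.quot R hRinv
  suffices hs : quotAut h R hRinv (QuotientGroup.mk' R g) = QuotientGroup.mk' R g by
    rw [quotAut_mk] at hs
    exact QuotientGroup.eq.1 hs.symm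
  haveI : Group.IsSolvable (G ⧸ R) :=
    Group.isSolvable_of_surjective (QuotientGroup.mk'_surjective R)
  refine hq.eq_id_of_fitting ?_ _
  set σ' := quotAut h R hRinv
  let E : Subgroup (G ⧸ R) :=
    { carrier := {y | σ' y = y}
      one_mem' := map_one σ'
      mul_mem' := fun {a b} ha hb => by
        show σ' (a * b) = a * b
        rw [map_mul, show σ' a = a from ha, show σ' b = b from hb]
      inv_mem' := fun {a} ha => by
        show σ' a⁻¹ = a⁻¹
        rw [map_inv, show σ' a = a from ha] }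
  suffices hle : Cfsg.fittingSubgroup (G ⧸ R) ≤ E from fun f hf => hle hf
  rw [Cores.fittingSubgroup_eq_iSup_pCore]
  refine iSup_le fun q => ?_
  haveI : Fact (q : ℕ).Prime := ⟨q.2⟩
  by_cases hq2 : (q : ℕ) = 2
  · rw [hq2, Coprime.OneClassInvolutions.pCore_quotient_self]; exact bot_le
  by_cases hq3 : (q : ℕ) = 3
  · intro y hy
    obtain ⟨k, hk⟩ := IsPGroup.iff_orderOf.1 (Cores.isPGroup_pCore (G := G ⧸ R) (q : ℕ)) ⟨y, hy⟩
    rw [← Subgroup.orderOf_coe] at hk
    rcases Nat.eq_zero_or_pos k with rfl | hk0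
    · rw [pow_zero, orderOf_eq_one_iff] at hk
      rw [show y = 1 from hk]
      exact one_mem E
    · have h3 : 3 ∣ (q : ℕ) ^ k := hq3.symm ▸ dvd_pow_self 3 hk0.ne'
      exact absurd (h3.trans (hk ▸ orderOf_dvd_natCard y)) hq.three
  set L := (Cfsg.pCore (q : ℕ) (G ⧸ R)).comap (QuotientGroup.mk' R)
  have hLinv : ∀ x ∈ L, σ x ∈ L := fun x hx => by
    have h1 := hq.invariant_of_char (Cfsg.pCore (q : ℕ) (G ⧸ R)) _ hx
    rwa [quotAut_mk] at h1
  obtain ⟨Q₀, hQ₀⟩ := (h.sub L hLinv).exists_sylow (q : ℕ)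
  set Q := (Q₀ : Subgroup L).map L.subtype with hQdef
  have hQinv : ∀ x ∈ Q, σ x ∈ Q := by
    rintro _ ⟨x, hx, rfl⟩
    exact ⟨_, hQ₀ x hx, rfl⟩
  have hQq : IsPGroup (q : ℕ) Q := Q₀.2.map _
  -- pass to the semidirect product
  by_cases hσ : σ = 1
  · intro y hy
    obtain ⟨x, rfl⟩ := QuotientGroup.mk'_surjective R y
    show quotAut h R hRinv (QuotientGroup.mk' R x) = _
    rw [quotAut_mk, hσ]; rfl
  have hσ3 : σ ^ 3 = 1 := MulEquiv.ext fun x => h.cube x
  let A := zpowers σ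
  have hA : Nat.card A = 3 := by
    haveI : Fact (Nat.Prime 3) := ⟨Nat.prime_three⟩
    rw [Nat.card_zpowers, orderOf_eq_prime hσ3 hσ]
  let Γ := G ⋊[A.subtype] A
  haveI : Finite Γ := Finite.of_equiv _ SemidirectProduct.equivProd.symm
  let ι : G →* Γ := SemidirectProduct.inl
  let a : Γ := SemidirectProduct.inr ⟨σ, mem_zpowers σ⟩
  have hconj : ∀ x : G, a * ι x * a⁻¹ = ι (σ x) := fun x => by
    refine Eq.trans ?_ (SemidirectProduct.inl_aut (φ := A.subtype) (⟨σ, mem_zpowers σ⟩ : A) x).symm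
    exact congrArg (a * ι x * ·) (map_inv (SemidirectProduct.inr (φ := A.subtype)) _).symm
  have hcomm : ∀ x : G, a * ι x = ι x * a ↔ σ x = x := fun x => by
    rw [← mul_inv_eq_iff_eq_mul, hconj, SemidirectProduct.inl_inj]
  have hord : orderOf a = 3 := by
    rw [orderOf_injective _ SemidirectProduct.inr_injective, ← Subgroup.orderOf_coe]
    exact (Nat.card_zpowers σ).symm.trans hA
  have hnorm : ∀ K : Subgroup G, (∀ x ∈ K, σ x ∈ K) →
      zpowers a ≤ normalizer (K.map ι : Set Γ) := fun K hK =>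
    zpowers_le.2 (mem_normalizer_of_mapsTo (by
      rintro _ ⟨x, hx, rfl⟩
      exact ⟨σ x, hK x hx, (hconj x).symm⟩))
  have hQR : Q.map ι ≤ normalizer (R.map ι : Set Γ) := by
    rintro _ ⟨x, hx, rfl⟩
    refine mem_normalizer_of_mapsTo ?_
    rintro _ ⟨r, hr, rfl⟩
    exact ⟨x * r * x⁻¹, (inferInstance : R.Normal).conj_mem r hr x, by simp⟩
  have hfaith : Q.map ι ⊓ centralizer (R.map ι : Set Γ) = ⊥ := by
    rw [eq_bot_iff]
    rintro _ ⟨⟨x, hx, rfl⟩, hc⟩
    have hxR : x ∈ R := hC (mem_centralizer_iff.2 fun r hr =>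
      SemidirectProduct.inl_injective (φ := A.subtype)
        (by rw [map_mul, map_mul]; exact mem_centralizer_iff.1 hc _ ⟨r, hr, rfl⟩))
    have h1 : x ∈ R ⊓ Q := ⟨hxR, hx⟩
    rw [Components.inf_eq_bot_of_pGroup_coprime (Cores.isPGroup_pCore 2) (by
      obtain ⟨k, hk⟩ := hQq.exists_card_eq
      rw [hk]
      exact ((Nat.coprime_primes q.2 Nat.prime_two).2 hq2).pow_left k), mem_bot] at h1
    rw [mem_bot, h1, map_one]
  have hCV : R.map ι ⊓ centralizer (zpowers a : Set Γ) = ⊥ := by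
    rw [eq_bot_iff]
    rintro _ ⟨⟨r, hr, rfl⟩, hc⟩
    have hfix : σ r = r := (hcomm r).1 (mem_centralizer_iff.1 hc a (mem_zpowers a))
    obtain ⟨k, hk⟩ := IsPGroup.iff_orderOf.1 (Cores.isPGroup_pCore (G := G) 2) ⟨r, hr⟩
    rw [← Subgroup.orderOf_coe] at hk
    have ho := h.odd r hfix
    rcases Nat.eq_zero_or_pos k with rfl | hk0
    · rw [pow_zero, orderOf_eq_one_iff] at hk
      rw [mem_bot, show r = 1 from hk, map_one]
    · exact absurd (even_iff_two_dvd.2 (show 2 ∣ orderOf r from hk ▸ dvd_pow_self 2 hk0.ne'))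
        (Nat.not_even_iff_odd.2 ho)
  have hfix := FPFOperators.le_centralizer_of_fpf (p := 2) (q := (q : ℕ)) (r := 3) Nat.prime_two
    q.2 Nat.prime_three (Ne.symm hq2) (by norm_num) hq3 (X := zpowers a) (Q := Q.map ι)
    (V := R.map ι) (by rw [Nat.card_zpowers, hord]) (hQq.map ι) (hnorm Q hQinv)
    (⟨⟨by
      rintro ⟨_, x, hx, rfl⟩ ⟨_, y, hy, rfl⟩
      refine Subtype.ext ?_
      show ι x * ι y = ι y * ι x
      rw [← map_mul, ← map_mul, Components.Signalizer.commute_of_mem hR hx hy]⟩⟩)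
    (by rintro _ ⟨x, hx, rfl⟩; rw [← map_pow, hR.2 x hx, map_one])
    (hnorm R hRinv) hQR hfaith hCV (.inl fun m hm he => hq2 (by
      have h2 : (q : ℕ) ∣ 2 := by
        rw [show (2 : ℕ) = 3 - 1 from rfl, he]
        exact dvd_pow_self _ (by omega)
      exact (Nat.prime_dvd_prime_iff_eq q.2 Nat.prime_two).1 h2))
  let f : L →* ↥(Cfsg.pCore (q : ℕ) (G ⧸ R)) :=
    { toFun := fun x => ⟨QuotientGroup.mk' R x, x.2⟩
      map_one' := by ext; simp
      map_mul' := fun a b => by ext; simp }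
  have hf : Function.Surjective f := by
    rintro ⟨y, hy⟩
    obtain ⟨x, rfl⟩ := QuotientGroup.mk'_surjective R y
    exact ⟨⟨x, hy⟩, rfl⟩
  intro y hy
  have h1 : (Q₀ : Subgroup L).map f = ⊤ := by
    rw [← Sylow.coe_mapSurjective hf Q₀]
    exact ((Q₀.mapSurjective hf).3
      ((Cores.isPGroup_pCore (G := G ⧸ R) (q : ℕ)).to_subgroup ⊤) le_top).symm
  obtain ⟨x, hx, hxe⟩ := h1.ge (mem_top (⟨y, hy⟩ : Cfsg.pCore (q : ℕ) (G ⧸ R)))
  have hxy : QuotientGroup.mk' R (x : G) = y := congrArg Subtype.val hxe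
  show σ' y = y
  rw [← hxy, quotAut_mk]
  congr 1
  exact (hcomm x).1 ((mem_centralizer_iff.1 (hfix (mem_zpowers a)) _
    ⟨(x : G), ⟨x, hx, rfl⟩, rfl⟩).symm)

theorem Fix3.solvable_aux : ∀ (n : ℕ) (G : Type u) [Group G] [Finite G], Nat.card G = n →
    Group.IsSolvable G → ∀ σ : MulAut G, Fix3 G σ → ∀ g : G,
      g⁻¹ * σ g ∈ Cfsg.pPrimePCore 2 G := by
  intro n
  induction n using Nat.strong_induction_on with
  | _ n ih =>
  intro G _ _ hn hsol σ h g
  subst hn
  haveI := hsol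
  haveI : Fact (Nat.Prime 2) := ⟨Nat.prime_two⟩
  set O := Cfsg.pPrimeCore 2 G with hOdef
  have hlt : ∀ N : Subgroup G, N ≠ ⊥ → Nat.card (G ⧸ N) < Nat.card G := fun N hN => by
    rw [card_eq_card_quotient_mul_card_subgroup N]
    exact lt_mul_of_one_lt_right Nat.card_pos ((Subgroup.one_lt_card_iff_ne_bot _).2 hN)
  have key : ∀ (N : Subgroup G) [N.Normal], N ≠ ⊥ → ∀ hN : ∀ x ∈ N, σ x ∈ N,
      QuotientGroup.mk' N (g⁻¹ * σ g) ∈ Cfsg.pPrimePCore 2 (G ⧸ N) := fun N _ hN1 hN => by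
    have := ih _ (hlt N hN1) (G ⧸ N) rfl
      (Group.isSolvable_of_surjective (QuotientGroup.mk'_surjective N)) _ (h.quot N hN)
      (QuotientGroup.mk' N g)
    rwa [quotAut_mk, ← map_inv, ← map_mul] at this
  by_cases hO : O = ⊥
  swap
  · have h1 := key O hO (h.invariant_of_char O)
    have h2 : Cfsg.pPrimePCore 2 (G ⧸ O) ≤ Cfsg.pCore 2 (G ⧸ O) := by
      haveI : (Cfsg.pPrimePCore 2 (G ⧸ O)).Normal := by
        unfold Cfsg.pPrimePCore; infer_instance
      refine Cores.le_pCore ((Cores.isPGroup_pCore 2).comap_of_injective _ ?_)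
      rw [← MonoidHom.ker_eq_bot_iff, QuotientGroup.ker_mk', Components.pPrimeCore_quotient_eq_bot]
    exact h2 h1
  set R := Cfsg.pCore 2 G
  have hC : centralizer (R : Set G) ≤ R := by
    have := Cores.centralizer_fittingSubgroup_le (G := G)
    rwa [Cores.fittingSubgroup_eq_pCore 2 hO] at this
  suffices hs : g⁻¹ * σ g ∈ R by
    show QuotientGroup.mk' O (g⁻¹ * σ g) ∈ Cfsg.pCore 2 (G ⧸ O)
    haveI : (R.map (QuotientGroup.mk' O)).Normal :=
      Subgroup.Normal.map inferInstance _ (QuotientGroup.mk'_surjective _)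
    exact Cores.le_pCore ((Cores.isPGroup_pCore 2).map _) ⟨_, hs, rfl⟩
  set Φ := (frattini R).map R.subtype with hΦ
  by_cases hΦ1 : Φ = ⊥
  · refine h.base ⟨⟨⟨fun a b => ?_⟩⟩, fun a ha => ?_⟩ hC g
    · have h1 := PGroup.Frattini.commutatorElement_mem_frattini (Cores.isPGroup_pCore (G := G) 2) a b
      rw [(map_eq_bot_iff_of_injective _ R.subtype_injective).1 hΦ1, mem_bot] at h1
      exact commutatorElement_eq_one_iff_mul_comm.1 h1
    · have h1 := PGroup.Frattini.pow_mem_frattini (Cores.isPGroup_pCore (G := G) 2) (⟨a, ha⟩ : R)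
      rw [(map_eq_bot_iff_of_injective _ R.subtype_injective).1 hΦ1, mem_bot] at h1
      simpa using congrArg Subtype.val h1
  haveI hΦn : Φ.Normal := hΦ ▸ inferInstance
  have hΦinv : ∀ x ∈ Φ, σ x ∈ Φ := by
    haveI : (frattini R).Characteristic := inferInstance
    rintro _ ⟨x, hx, rfl⟩
    exact ⟨_, (h.sub R (h.invariant_of_char R)).invariant_of_char (frattini R) x hx, rfl⟩
  have h1 := key Φ hΦ1 hΦinv
  set π := QuotientGroup.mk' Φ
  have hΦR : Φ ≤ R := map_subtype_le _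
  have hΦ2 : IsPGroup 2 Φ := (Cores.isPGroup_pCore 2).to_le hΦR
  have hO' : Cfsg.pPrimeCore 2 (G ⧸ Φ) = ⊥ := by
    rw [eq_bot_iff]
    intro y hy
    have hyodd : Odd (orderOf y) := by
      rw [← Nat.coprime_two_right]
      exact (Cores.coprime_card_pPrimeCore (G := G ⧸ Φ) 2).coprime_dvd_left
        (Subgroup.orderOf_dvd_natCard _ hy)
    obtain ⟨x₀, rfl⟩ := QuotientGroup.mk'_surjective Φ y
    obtain ⟨e, u, hu, hxe⟩ := Nat.exists_eq_pow_mul_and_not_dvd (orderOf_pos x₀).ne' 2 (by norm_num)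
    set x := x₀ ^ 2 ^ e
    have hxodd : (orderOf x).Coprime 2 := by
      have : orderOf x = u := by
        rw [orderOf_pow, hxe, Nat.gcd_eq_right (dvd_mul_right _ _),
          Nat.mul_div_cancel_left _ (by positivity)]
      rw [this]
      exact (Nat.prime_two.coprime_iff_not_dvd.2 hu).symm
    have hxmem : π x ∈ Cfsg.pPrimeCore 2 (G ⧸ Φ) := by
      rw [map_pow]; exact pow_mem hy _
    have hcR : (zpowers x) ≤ centralizer (R : Set G) := by
      refine Coprime.le_centralizer_of_frattini (by rw [normalizer_eq_top]; exact le_top) ?_ ?_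
      · obtain ⟨k, hk⟩ := ((Cores.isPGroup_pCore (G := G) 2).to_subgroup (frattini R)).exists_card_eq
        rw [Nat.card_zpowers, hk]
        exact hxodd.pow_right k
      intro a ha r hr
      have hπ : π ⁅a, r⁆ ∈ Cfsg.pPrimeCore 2 (G ⧸ Φ) ⊓ R.map π := by
        haveI : (R.map π).Normal :=
          Subgroup.Normal.map inferInstance _ (QuotientGroup.mk'_surjective _)
        have haO : π a ∈ Cfsg.pPrimeCore 2 (G ⧸ Φ) := by
          obtain ⟨i, rfl⟩ := mem_zpowers_iff.1 ha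
          rw [map_zpow]; exact zpow_mem hxmem i
        refine mem_inf.2 ⟨?_, ?_⟩
        · rw [map_commutatorElement, commutatorElement_def,
            show π a * π r * (π a)⁻¹ * (π r)⁻¹ = π a * (π r * (π a)⁻¹ * (π r)⁻¹) by group]
          exact mul_mem haO ((inferInstance : (Cfsg.pPrimeCore 2 (G ⧸ Φ)).Normal).conj_mem _
            (inv_mem haO) _)
        · exact ⟨⁅a, r⁆, by
            rw [commutatorElement_def]
            exact mul_mem ((inferInstance : R.Normal).conj_mem r hr a) (inv_mem hr), rfl⟩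
      rw [inf_comm, Components.inf_eq_bot_of_pGroup_coprime ((Cores.isPGroup_pCore 2).map π)
        (Cores.coprime_card_pPrimeCore 2), mem_bot] at hπ
      exact (QuotientGroup.eq_one_iff _).1 hπ
    have hxR : x ∈ R := hC (hcR (mem_zpowers x))
    have hx1 : x = 1 := by
      obtain ⟨k, hk⟩ := IsPGroup.iff_orderOf.1 (Cores.isPGroup_pCore (G := G) 2) ⟨x, hxR⟩
      rw [← Subgroup.orderOf_coe] at hk
      rw [← orderOf_eq_one_iff]
      exact Nat.eq_one_of_dvd_coprimes hxodd dvd_rfl (by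
        rcases Nat.eq_zero_or_pos k with rfl | hk0
        · rw [show orderOf x = 1 by simpa using hk]; exact one_dvd _
        · exfalso
          have h2 : 2 ∣ orderOf x := hk ▸ dvd_pow_self 2 hk0.ne'
          exact (Nat.prime_two.coprime_iff_not_dvd.1 hxodd.symm) h2)
    rw [mem_bot, ← orderOf_eq_one_iff]
    exact Nat.eq_one_of_dvd_coprimes
      ((Nat.coprime_two_right.2 hyodd).pow_right e) dvd_rfl
      (orderOf_dvd_of_pow_eq_one (by rw [← map_pow, show x₀ ^ 2 ^ e = 1 from hx1, map_one]))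
  have h2 : Cfsg.pPrimePCore 2 (G ⧸ Φ) ≤ Cfsg.pCore 2 (G ⧸ Φ) := by
    haveI : (Cfsg.pPrimePCore 2 (G ⧸ Φ)).Normal := by
      unfold Cfsg.pPrimePCore; infer_instance
    refine Cores.le_pCore ((Cores.isPGroup_pCore 2).comap_of_injective _ ?_)
    rw [← MonoidHom.ker_eq_bot_iff, QuotientGroup.ker_mk', hO']
  have h3 : (Cfsg.pCore 2 (G ⧸ Φ)).comap π ≤ R :=
    Cores.le_pCore ((Cores.isPGroup_pCore 2).comap_of_ker_isPGroup π (by
      rw [QuotientGroup.ker_mk']; exact hΦ2))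
  exact h3 (h2 h1)

/-- In a solvable group `σ` centralises `G / O_{2',2}(G)`. -/
theorem Fix3.solvable (h : Fix3 G σ) (hsol : Group.IsSolvable G) (g : G) :
    g⁻¹ * σ g ∈ Cfsg.pPrimePCore 2 G :=
  Fix3.solvable_aux _ G rfl hsol σ h g

end CfsgLib.OrbitClosed
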