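import Cfsg.Agent.Lib.OrbitClosed.FixedThree
import Cfsg.Agent.S1999

/-!
In a group all of whose proper invariant subgroups are solvable, the normaliser of an invariant
Sylow 2-subgroup controls fusion.
-/

set_option autoImplicit false
set_option linter.unusedSectionVars false
set_option linter.style.haveILetI false
set_option linter.unusedVariables false

namespace CfsgLib.OrbitClosed

open Subgroup CfsgLib.Solvable
open scoped commutatorElement Pointwise

universe u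

variable {G : Type u} [Group G] [Finite G] {σ : MulAut G}

/-- A section isomorphic to `S₄` needs an order divisible by three. -/
theorem Fix3.not_involves (h : Fix3 G σ) : ¬ Cfsg.Involves (Equiv.Perm (Fin 4)) G := by
  rintro ⟨K, R, hR, ⟨e⟩⟩
  refine h.three (Dvd.dvd.trans ?_ ((card_quotient_dvd_card (R.subgroupOf K)).trans
    (card_subgroup_dvd_card K)))
  rw [Nat.card_congr e.toEquiv, Nat.card_perm, Nat.card_fin]
  decide

theorem Fix3.invariant_normalizer (h : Fix3 G σ) {W : Subgroup G} (hW : ∀ x ∈ W, σ x ∈ W) :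
    ∀ x ∈ normalizer (W : Set G), σ x ∈ normalizer (W : Set G) := fun x hx => by
  refine mem_normalizer_of_mapsTo fun w hw => ?_
  have h1 := hW _ ((mem_normalizer_iff.1 hx _).1 (hW _ (hW w hw)))
  rwa [map_mul, map_mul, map_inv, h.cube] at h1

theorem Fix3.invariant_center_part (h : Fix3 G σ) {P : Subgroup G} (hP : ∀ x ∈ P, σ x ∈ P) :
    ∀ x ∈ P ⊓ centralizer (P : Set G), σ x ∈ P ⊓ centralizer (P : Set G) := fun x hx =>
  ⟨hP x hx.1, mem_centralizer_iff.2 fun y hy => by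
    have h1 := congrArg σ (mem_centralizer_iff.1 hx.2 _ (hP _ (hP y hy)))
    rwa [map_mul, map_mul, h.cube] at h1⟩

theorem Fix3.invariant_thompson (h : Fix3 G σ) {P : Subgroup G} (hP : ∀ x ∈ P, σ x ∈ P) :
    ∀ x ∈ Cfsg.thompsonSubgroupOf 2 P, σ x ∈ Cfsg.thompsonSubgroupOf 2 P := by
  haveI : Fact (Nat.Prime 2) := ⟨Nat.prime_two⟩
  rintro _ ⟨x, hx, rfl⟩
  exact ⟨_, (h.sub P hP).invariant_of_char _ x hx, rfl⟩

/-- In a solvable invariant subgroup the elements fusing tuples of an invariant Sylow 2-subgroup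
may be taken in its normaliser; moreover `σ` centralises the normaliser modulo the centraliser of
the centre. -/
theorem Fix3.local_step (h : Fix3 G σ) (P : Sylow 2 G) (X : Subgroup G)
    (hX : ∀ x ∈ X, σ x ∈ X) (hPX : (P : Subgroup G) ≤ X) (hsol : Group.IsSolvable X) :
    (∀ x ∈ X, ∃ n ∈ normalizer ((P : Subgroup G) : Set G), ∀ a ∈ (P : Subgroup G),
      x * a * x⁻¹ ∈ (P : Subgroup G) → n * a * n⁻¹ = x * a * x⁻¹) ∧
    ∀ x ∈ X, x ∈ normalizer ((P : Subgroup G) : Set G) →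
      σ x ∈ normalizer ((P : Subgroup G) : Set G) →
      ∀ v ∈ (P : Subgroup G), v ∈ centralizer ((P : Subgroup G) : Set G) →
        (x⁻¹ * σ x) * v * (x⁻¹ * σ x)⁻¹ = v := by
  haveI : Fact (Nat.Prime 2) := ⟨Nat.prime_two⟩
  haveI := hsol
  have hX3 := h.sub X hX
  set U := Cfsg.pPrimePCore 2 X
  set O := Cfsg.pPrimeCore 2 X
  set π := QuotientGroup.mk' O
  haveI hUn : U.Normal := by
    show (Cfsg.pPrimePCore 2 X).Normal
    unfold Cfsg.pPrimePCore; infer_instance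
  have hUinv := hX3.invariant_pPrimePCore 2
  have hq := hX3.quot U hUinv
  let PX : Sylow 2 X := P.subtype hPX
  -- `X / O_{2',2}(X)` has odd order
  have hPU : (PX : Subgroup X) ≤ U := by
    intro p hp
    have hfix : quotAut hX3 U hUinv (QuotientGroup.mk' U p) = QuotientGroup.mk' U p := by
      rw [quotAut_mk]
      exact (QuotientGroup.eq.2 (hX3.solvable hsol p)).symm
    obtain ⟨k, hk⟩ := IsPGroup.iff_orderOf.1 (PX.2.map (QuotientGroup.mk' U))
      ⟨QuotientGroup.mk' U p, ⟨p, hp, rfl⟩⟩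
    rw [← Subgroup.orderOf_coe] at hk
    have ho := hq.odd _ hfix
    rcases Nat.eq_zero_or_pos k with rfl | hk0
    · rw [pow_zero, orderOf_eq_one_iff] at hk
      exact (QuotientGroup.eq_one_iff p).1 hk
    · exact absurd (even_iff_two_dvd.2 (hk ▸ dvd_pow_self 2 hk0.ne'))
        (Nat.not_even_iff_odd.2 ho)
  have hπP : (PX : Subgroup X).map π = Cfsg.pCore 2 (X ⧸ O) := by
    let P' := PX.mapSurjective (QuotientGroup.mk'_surjective O)
    rw [← Sylow.coe_mapSurjective (QuotientGroup.mk'_surjective O) PX]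
    refine (P'.3 (Cores.isPGroup_pCore 2) ?_).symm
    rw [Sylow.coe_mapSurjective]
    exact map_le_iff_le_comap.2 hPU
  have hcop := Cores.coprime_card_pPrimeCore (G := X) 2
  have hdisj : ∀ z : X, z ∈ (PX : Subgroup X) → z ∈ O → z = 1 := fun z h1 h2 => by
    have h3 : z ∈ (PX : Subgroup X) ⊓ O := ⟨h1, h2⟩
    rwa [Components.inf_eq_bot_of_pGroup_coprime PX.2 hcop, mem_bot] at h3
  have hcen : ∀ o : X, o ∈ O → ∀ a : X, a ∈ (PX : Subgroup X) →
      o * a * o⁻¹ ∈ (PX : Subgroup X) → o * a * o⁻¹ = a := fun o ho a ha h1 => by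
    refine mul_inv_eq_one.1 (hdisj _ (mul_mem h1 (inv_mem ha)) ?_)
    rw [show o * a * o⁻¹ * a⁻¹ = o * (a * o⁻¹ * a⁻¹) by group]
    exact mul_mem ho ((inferInstance : O.Normal).conj_mem _ (inv_mem ho) a)
  constructor
  · intro x hx
    have hle : (PX : Subgroup X).map (MulAut.conj (⟨x, hx⟩ : X)).toMonoidHom ≤ O ⊔ PX :=
      Coprime.conj_map_le_iff.2 fun p hp => by
        have h1 : π (⟨x, hx⟩ * p * ⟨x, hx⟩⁻¹) ∈ (PX : Subgroup X).map π := by
          rw [hπP, map_mul, map_mul, map_inv]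
          exact (inferInstance : (Cfsg.pCore 2 (X ⧸ O)).Normal).conj_mem _
            (hπP ▸ ⟨p, hp, rfl⟩) _
        have h2 : ⟨x, hx⟩ * p * ⟨x, hx⟩⁻¹ ∈ ((PX : Subgroup X).map π).comap π := h1
        rwa [comap_map_eq, QuotientGroup.ker_mk', sup_comm] at h2
    obtain ⟨o, ho, he⟩ := Coprime.exists_conj_eq (N := O)
      (H := (PX : Subgroup X).map (MulAut.conj (⟨x, hx⟩ : X)).toMonoidHom) (K := (PX : Subgroup X))
      (.inr (by
        haveI := (PX.2.map (MulAut.conj (⟨x, hx⟩ : X)).toMonoidHom).isNilpotent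
        infer_instance))
      (by rw [normalizer_eq_top]; exact le_top) (by rw [normalizer_eq_top]; exact le_top) hle
      (Coprime.card_conj_map _ _)
      (Components.coprime_card_of_isPGroup (PX.2.map _) hcop).symm
    rw [Coprime.conj_map_map] at he
    have hnorm : ∀ a : X, a ∈ (PX : Subgroup X) →
        o * ⟨x, hx⟩ * a * (o * ⟨x, hx⟩)⁻¹ ∈ (PX : Subgroup X) := fun a ha =>
      he.le ⟨a, ha, rfl⟩
    refine ⟨(o : G) * x, mem_normalizer_of_mapsTo fun a ha => hnorm ⟨a, hPX ha⟩ ha,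
      fun a ha hxa => ?_⟩
    have h1 := hcen o ho (⟨x, hx⟩ * ⟨a, hPX ha⟩ * ⟨x, hx⟩⁻¹) hxa (by
      have := hnorm ⟨a, hPX ha⟩ ha
      rwa [show o * ⟨x, hx⟩ * ⟨a, hPX ha⟩ * (o * ⟨x, hx⟩)⁻¹ =
        o * (⟨x, hx⟩ * ⟨a, hPX ha⟩ * ⟨x, hx⟩⁻¹) * o⁻¹ by group] at this)
    have h2 := congrArg Subtype.val h1
    simp only [Subgroup.coe_mul, InvMemClass.coe_inv] at h2
    rw [← h2]; group
  · intro x hxX hxN hsxN v hv hvc
    have hcU : (⟨x, hxX⟩ : X)⁻¹ * restrictAut h X hX ⟨x, hxX⟩ ∈ U := hX3.solvable hsol _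
    set c : X := (⟨x, hxX⟩ : X)⁻¹ * restrictAut h X hX ⟨x, hxX⟩ with hc
    have hcN : (c : G) ∈ normalizer ((P : Subgroup G) : Set G) := mul_mem (inv_mem hxN) hsxN
    have h2 : c ∈ ((PX : Subgroup X).map π).comap π := by rw [hπP]; exact hcU
    rw [comap_map_eq, QuotientGroup.ker_mk', sup_comm] at h2
    obtain ⟨o, ho, p, hp, hop⟩ := Subgroup.mem_sup_of_normal_left.1 h2
    show (c : G) * v * (c : G)⁻¹ = v
    have hpv : (p : G) * v * (p : G)⁻¹ = v :=
      conj_eq_iff.2 (mem_centralizer_iff.1 hvc _ hp)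
    have hov : o * ⟨v, hPX hv⟩ * o⁻¹ = (⟨v, hPX hv⟩ : X) := hcen o ho _ hv (by
      show (o : G) * v * (o : G)⁻¹ ∈ (P : Subgroup G)
      have h3 := (mem_normalizer_iff.1 hcN v).1 hv
      rw [← hop, Subgroup.coe_mul, show (o : G) * p * v * ((o : G) * p)⁻¹ =
        (o : G) * ((p : G) * v * (p : G)⁻¹) * (o : G)⁻¹ by group, hpv] at h3
      exact h3)
    have hov' : (o : G) * v * (o : G)⁻¹ = v := congrArg Subtype.val hov
    rw [← hop, Subgroup.coe_mul, show (o : G) * p * v * ((o : G) * p)⁻¹ =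
      (o : G) * ((p : G) * v * (p : G)⁻¹) * (o : G)⁻¹ by group, hpv, hov']

theorem conj_normalizer {W W' : Subgroup G} {g x : G}
    (hW : W' = W.map (MulAut.conj g).toMonoidHom) (hx : x ∈ normalizer (W' : Set G)) :
    g⁻¹ * x * g ∈ normalizer (W : Set G) := by
  refine mem_normalizer_of_mapsTo fun w hw => ?_
  obtain ⟨u, hu, hue⟩ := hW.le ((mem_normalizer_iff.1 hx _).1 (hW.ge ⟨w, hw, rfl⟩))
  have hue' : g * u * g⁻¹ = x * (g * w * g⁻¹) * x⁻¹ := hue
  rw [show g⁻¹ * x * g * w * (g⁻¹ * x * g)⁻¹ = g⁻¹ * (x * (g * w * g⁻¹) * x⁻¹) * g by group,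
    ← hue', show g⁻¹ * (g * u * g⁻¹) * g = u by group]
  exact hu

theorem center_part_conj (P : Subgroup G) (g : G) :
    P.map (MulAut.conj g).toMonoidHom ⊓
        centralizer ((P.map (MulAut.conj g).toMonoidHom : Subgroup G) : Set G) =
      (P ⊓ centralizer (P : Set G)).map (MulAut.conj g).toMonoidHom := by
  ext x
  constructor
  · rintro ⟨⟨p, hp, rfl⟩, hc⟩
    refine ⟨p, ⟨hp, mem_centralizer_iff.2 fun y hy => ?_⟩, rfl⟩
    have h := mem_centralizer_iff.1 hc _ ⟨y, hy, rfl⟩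
    rw [← map_mul, ← map_mul] at h
    exact (MulAut.conj g).injective h
  · rintro ⟨p, ⟨hp, hpc⟩, rfl⟩
    refine ⟨⟨p, hp, rfl⟩, mem_centralizer_iff.2 ?_⟩
    rintro _ ⟨y, hy, rfl⟩
    rw [← map_mul, ← map_mul, mem_centralizer_iff.1 hpc y hy]

/-- Control of fusion by `N(P)`. -/
theorem Fix3.fusion (h : Fix3 G σ) (P : Sylow 2 G) (hPinv : ∀ x ∈ (P : Subgroup G), σ x ∈ (P : Subgroup G))
    (hsolv : ∀ X : Subgroup G, X ≠ ⊤ → (∀ x ∈ X, σ x ∈ X) → Group.IsSolvable X)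
    (hnorm : ∀ W : Subgroup G, W.Normal → W ≠ ⊥ → (∀ x ∈ W, σ x ∈ W) → W = ⊤)
    (hP : (P : Subgroup G) ≠ ⊥) (hPtop : (P : Subgroup G) ≠ ⊤)
    (A : Set G) (hA : A ⊆ (P : Subgroup G)) (k : G)
    (hk : ∀ a ∈ A, k * a * k⁻¹ ∈ (P : Subgroup G)) :
    ∃ n ∈ normalizer ((P : Subgroup G) : Set G), ∀ a ∈ A, n * a * n⁻¹ = k * a * k⁻¹ := by
  haveI : Fact (Nat.Prime 2) := ⟨Nat.prime_two⟩
  obtain ⟨T, -, hT, hidx, hc⟩ := CfsgLib.Fusion.SFreeFF.zjPair_controls h.not_involves G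
    (CfsgLib.KGroups.Functor.sec_self G)
  rw [relIndex_top_right] at hidx
  obtain ⟨g, hg⟩ := MulAction.exists_smul_eq G P (hT.toSylow hidx)
  have hTeq : T = (P : Subgroup G).map (MulAut.conj g).toMonoidHom := by
    have h1 : ((g • P : Sylow 2 G) : Subgroup G) = T := by rw [hg]; exact IsPGroup.toSylow_coe _ _
    rw [← h1]; rfl
  have hmemT : ∀ x, x ∈ (P : Subgroup G) → g * x * g⁻¹ ∈ T := fun x hx => hTeq ▸ ⟨x, hx, rfl⟩
  have hmemP : ∀ x, x ∈ T → g⁻¹ * x * g ∈ (P : Subgroup G) := by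
    intro x hx
    obtain ⟨p, hp, rfl⟩ := hTeq.le hx
    show g⁻¹ * (g * p * g⁻¹) * g ∈ (P : Subgroup G)
    rwa [show g⁻¹ * (g * p * g⁻¹) * g = p by group]
  obtain ⟨n, c, hc0, hcW, hcT, hclast⟩ := hc ((fun a => g * a * g⁻¹) '' A) (g * k * g⁻¹) (mem_top _)
    (by rintro _ ⟨a, ha, rfl⟩; exact hmemT a (hA ha))
    (by
      rintro _ ⟨_, ⟨a, ha, rfl⟩, rfl⟩
      show g * k * g⁻¹ * (g * a * g⁻¹) * (g * k * g⁻¹)⁻¹ ∈ T
      rw [show g * k * g⁻¹ * (g * a * g⁻¹) * (g * k * g⁻¹)⁻¹ = g * (k * a * k⁻¹) * g⁻¹ by group]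
      exact hmemT _ (hk a ha))
  have hstep : ∀ i : Fin (n + 1), ∃ m ∈ normalizer ((P : Subgroup G) : Set G),
      ∀ a ∈ A, m * a * m⁻¹ = g⁻¹ * c i * g * a * (g⁻¹ * c i * g)⁻¹ := by
    refine Fin.induction ⟨1, one_mem _, fun a _ => by rw [hc0]; group⟩ fun i hi => ?_
    obtain ⟨m, hm, hma⟩ := hi
    obtain ⟨W, ⟨W₀, hW₀, rfl⟩, -, hWi⟩ := hcW i
    set d := g⁻¹ * (c i.succ * (c i.castSucc)⁻¹) * g with hd
    have key : ∀ Z : Subgroup G, Z ≠ ⊥ → Z ≤ (P : Subgroup G) → (∀ x ∈ Z, σ x ∈ Z) →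
        (P : Subgroup G) ≤ normalizer (Z : Set G) → d ∈ normalizer (Z : Set G) →
        ∃ m' ∈ normalizer ((P : Subgroup G) : Set G), ∀ a ∈ (P : Subgroup G),
          d * a * d⁻¹ ∈ (P : Subgroup G) → m' * a * m'⁻¹ = d * a * d⁻¹ := by
      intro Z hZ1 hZP hZinv hPZ hdZ
      have hne : normalizer (Z : Set G) ≠ ⊤ := fun ht => hPtop (top_le_iff.1
        ((hnorm Z (normalizer_eq_top_iff.1 ht) hZ1 hZinv) ▸ hZP))
      exact (h.local_step P _ (h.invariant_normalizer hZinv) hPZ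
        (hsolv _ hne (h.invariant_normalizer hZinv))).1 d hdZ
    obtain ⟨m', hm', hm'a⟩ : ∃ m' ∈ normalizer ((P : Subgroup G) : Set G),
        ∀ a ∈ (P : Subgroup G), d * a * d⁻¹ ∈ (P : Subgroup G) → m' * a * m'⁻¹ = d * a * d⁻¹ := by
      rcases hW₀ with rfl | rfl
      · refine key ((P : Subgroup G) ⊓ centralizer ((P : Subgroup G) : Set G)) ?_ inf_le_left
          (h.invariant_center_part hPinv)
          ((le_inf le_normalizer ?_).trans inf_normalizer_le_normalizer_inf)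
          (conj_normalizer (center_part_conj (P : Subgroup G) g) ?_)
        · haveI : Nontrivial (P : Subgroup G) := (Subgroup.nontrivial_iff_ne_bot _).2 hP
          haveI := P.2.center_nontrivial
          obtain ⟨z, hz⟩ := exists_ne (1 : center (P : Subgroup G))
          intro hb
          refine hz (Subtype.ext (Subtype.ext ?_))
          have : ((z : (P : Subgroup G)) : G) ∈
              (P : Subgroup G) ⊓ centralizer ((P : Subgroup G) : Set G) :=
            ⟨(z : (P : Subgroup G)).2, mem_centralizer_iff.2 fun y hy =>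
              congrArg Subtype.val (mem_center_iff.1 z.2 ⟨y, hy⟩)⟩
          rwa [hb, mem_bot] at this
        · intro x hx
          refine mem_normalizer_of_mapsTo fun y hy => mem_centralizer_iff.2 fun z hz => ?_
          have h1 := mem_centralizer_iff.1 hy _ (mul_mem (mul_mem (inv_mem hx) hz) hx)
          calc z * (x * y * x⁻¹) = x * ((x⁻¹ * z * x) * y) * x⁻¹ := by group
            _ = x * (y * (x⁻¹ * z * x)) * x⁻¹ := by rw [h1]
            _ = _ := by group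
        · rwa [← hTeq, ← CfsgLib.Fusion.SFreeFF.inducedFunctor_zFunctor]
      · refine key (Cfsg.thompsonSubgroupOf 2 (P : Subgroup G)) ?_
          (CfsgLib.Fusion.Thompson.thompsonSubgroupOf_le _) (h.invariant_thompson hPinv)
          (le_normalizer.trans
            (CfsgLib.Fusion.Thompson.normalizer_le_normalizer_thompsonOf _))
          (conj_normalizer (CfsgLib.Fusion.Thompson.thompsonSubgroupOf_map_conj g _) ?_)
        · intro hb
          haveI : Nontrivial (P : Subgroup G) := (Subgroup.nontrivial_iff_ne_bot _).2 hP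
          obtain ⟨E, hE⟩ :=
            CfsgLib.Fusion.Thompson.exists_maxEA (p := 2) (G := (P : Subgroup G))
          obtain ⟨x, hx⟩ := exists_prime_orderOf_dvd_card' (G := (P : Subgroup G)) 2
            (((P.2.card_eq_or_dvd)).resolve_left Finite.one_lt_card.ne')
          have hx2 : Cfsg.IsElementaryAbelian 2 (zpowers x) := by
            refine ⟨inferInstance, fun a ha => ?_⟩
            obtain ⟨j, rfl⟩ := mem_zpowers_iff.1 ha
            rw [← zpow_natCast, ← zpow_mul, mul_comm, zpow_mul, zpow_natCast,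
              orderOf_dvd_iff_pow_eq_one.1 hx.dvd, one_zpow]
          have h1 := hE.2 _ hx2
          rw [Nat.card_zpowers, hx] at h1
          have h2 : E ≤ Cfsg.thompsonSubgroup 2 (P : Subgroup G) := le_sSup hE
          have h3 : Cfsg.thompsonSubgroup 2 (P : Subgroup G) = ⊥ :=
            (map_eq_bot_iff_of_injective _ (subtype_injective _)).1 hb
          rw [h3, le_bot_iff] at h2
          rw [h2, Subgroup.card_bot] at h1
          omega
        · rw [← hTeq]; exact hWi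
    refine ⟨m' * m, mul_mem hm' hm, fun a ha => ?_⟩
    have hci : g⁻¹ * c i.castSucc * g * a * (g⁻¹ * c i.castSucc * g)⁻¹ ∈ (P : Subgroup G) := by
      have h1 := hmemP _ (hcT i.castSucc ⟨_, ⟨a, ha, rfl⟩, rfl⟩)
      rwa [show g⁻¹ * (c i.castSucc * (g * a * g⁻¹) * (c i.castSucc)⁻¹) * g =
        g⁻¹ * c i.castSucc * g * a * (g⁻¹ * c i.castSucc * g)⁻¹ by group] at h1
    have hcs : g⁻¹ * c i.succ * g * a * (g⁻¹ * c i.succ * g)⁻¹ ∈ (P : Subgroup G) := by
      have h1 := hmemP _ (hcT i.succ ⟨_, ⟨a, ha, rfl⟩, rfl⟩)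
      rwa [show g⁻¹ * (c i.succ * (g * a * g⁻¹) * (c i.succ)⁻¹) * g =
        g⁻¹ * c i.succ * g * a * (g⁻¹ * c i.succ * g)⁻¹ by group] at h1
    have e : d * (g⁻¹ * c i.castSucc * g * a * (g⁻¹ * c i.castSucc * g)⁻¹) * d⁻¹ =
        g⁻¹ * c i.succ * g * a * (g⁻¹ * c i.succ * g)⁻¹ := by rw [hd]; group
    rw [show m' * m * a * (m' * m)⁻¹ = m' * (m * a * m⁻¹) * m'⁻¹ by group, hma a ha,
      hm'a _ hci (by rw [e]; exact hcs), e]
  obtain ⟨m, hm, hma⟩ := hstep (Fin.last n)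
  refine ⟨m, hm, fun a ha => ?_⟩
  rw [hma a ha, show g⁻¹ * c (Fin.last n) * g * a * (g⁻¹ * c (Fin.last n) * g)⁻¹ =
    g⁻¹ * (c (Fin.last n) * (g * a * g⁻¹) * (c (Fin.last n))⁻¹) * g by group,
    hclast _ ⟨a, ha, rfl⟩]
  group

end CfsgLib.OrbitClosed
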