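import Cfsg.Agent.Lib.OrbitClosed.Basic
import Cfsg.Agent.Lib.Components.SFT.Complete
import Cfsg.Agent.S0217

/-!
A strongly closed elementary abelian central subgroup with an automizer commuting with an
automorphism of order three without fixed points, and with enough solvable centralisers, lies in
`O_{2',2}`.
-/

set_option autoImplicit false
set_option linter.unusedSectionVars false
set_option linter.style.haveILetI false
set_option linter.unusedVariables false

namespace CfsgLib.OrbitClosed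

open Subgroup CfsgLib.Solvable
open scoped Pointwise

universe u

variable {H : Type u} [Group H] [Finite H] {P : Sylow 2 H} {V : Subgroup H} {R : Set H}
  {s : H → H}

/-- The odd core of the centraliser of an element. -/
def core (v : H) : Subgroup H :=
  (Cfsg.pPrimeCore 2 (centralizer ({v} : Set H))).map (centralizer ({v} : Set H)).subtype

theorem core_le (v : H) : core v ≤ centralizer ({v} : Set H) := map_subtype_le _

theorem not_dvd_core (v : H) : ¬ 2 ∣ Nat.card (core v) := fun h =>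
  (Nat.prime_two.coprime_iff_not_dvd.1
    (Cores.coprime_card_pPrimeCore (G := centralizer ({v} : Set H)) 2).symm)
    (by rwa [core, card_map_of_injective (subtype_injective _)] at h)

theorem conj_mem_core {v c x : H} (hc : c ∈ centralizer ({v} : Set H)) (hx : x ∈ core v) :
    c * x * c⁻¹ ∈ core v := by
  obtain ⟨x, hx, rfl⟩ := hx
  exact ⟨⟨c, hc⟩ * x * ⟨c, hc⟩⁻¹,
    (inferInstance : (Cfsg.pPrimeCore 2 (centralizer ({v} : Set H))).Normal).conj_mem x hx _, rfl⟩

theorem le_core {v : H} {X : Subgroup H} (hX : X ≤ centralizer ({v} : Set H))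
    (hn : centralizer ({v} : Set H) ≤ normalizer (X : Set H)) (hodd : ¬ 2 ∣ Nat.card X) :
    X ≤ core v := by
  haveI := (normal_subgroupOf_iff_le_normalizer hX).2 hn
  have h := Cores.le_pPrimeCore (N := X.subgroupOf (centralizer ({v} : Set H))) (p := 2)
    (by rw [Nat.card_congr (subgroupOfEquivOfLe hX).toEquiv]
        exact (Nat.prime_two.coprime_iff_not_dvd.2 hodd).symm)
  exact fun x hx => ⟨⟨x, hX hx⟩, h hx, rfl⟩

theorem core_conj (g v : H) :
    (core v).map (MulAut.conj g).toMonoidHom ≤ core (g * v * g⁻¹) := by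
  refine le_core ?_ ?_ (by rw [Coprime.card_conj_map]; exact not_dvd_core v)
  · rintro _ ⟨x, hx, rfl⟩
    refine mem_centralizer_one_iff.2 ?_
    show g * x * g⁻¹ * (g * v * g⁻¹) * (g * x * g⁻¹)⁻¹ = g * v * g⁻¹
    calc _ = g * (x * v * x⁻¹) * g⁻¹ := by group
      _ = _ := by rw [mem_centralizer_one_iff.1 (core_le v hx)]
  · refine fun c hc => mem_normalizer_of_mapsTo ?_
    rintro _ ⟨x, hx, rfl⟩
    refine ⟨g⁻¹ * c * g * x * (g⁻¹ * c * g)⁻¹, conj_mem_core (mem_centralizer_one_iff.2 ?_) hx, ?_⟩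
    · calc g⁻¹ * c * g * v * (g⁻¹ * c * g)⁻¹ = g⁻¹ * (c * (g * v * g⁻¹) * c⁻¹) * g := by group
        _ = v := by rw [mem_centralizer_one_iff.1 hc]; group
    · show g * (g⁻¹ * c * g * x * (g⁻¹ * c * g)⁻¹) * g⁻¹ = c * (g * x * g⁻¹) * c⁻¹
      group

/-- A subgroup of odd order normal in a normal subgroup is trivial. -/
theorem eq_bot_of_odd_subnormal (hO : Cfsg.pPrimeCore 2 H = ⊥) (N : Subgroup H) [N.Normal]
    {Y : Subgroup H} (hY : Y ≤ N) (hN : N ≤ normalizer (Y : Set H))
    (hodd : ¬ 2 ∣ Nat.card Y) : Y = ⊥ := by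
  haveI := (normal_subgroupOf_iff_le_normalizer hY).2 hN
  have h := Cores.le_pPrimeCore (N := Y.subgroupOf N) (p := 2)
    (by rw [Nat.card_congr (subgroupOfEquivOfLe hY).toEquiv]
        exact (Nat.prime_two.coprime_iff_not_dvd.2 hodd).symm)
  have h2 : (Cfsg.pPrimeCore 2 N).map N.subtype = ⊥ := eq_bot_of_odd_normal hO _ fun hd =>
    (Nat.prime_two.coprime_iff_not_dvd.1 (Cores.coprime_card_pPrimeCore (G := N) 2).symm)
      (by rwa [card_map_of_injective (subtype_injective _)] at hd)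
  exact eq_bot_iff.2 fun y hy => h2 ▸ ⟨⟨y, hY hy⟩, h hy, rfl⟩

theorem Data.pCore_le (d : Data P V R s) : Cfsg.pCore 2 H ≤ (P : Subgroup H) :=
  Cores.pCore_le_sylow P

/-- With one member of `R` in `O₂`, the group is constrained. -/
theorem Data.constrained (d : Data P V R s) (hO : Cfsg.pPrimeCore 2 H = ⊥) {r : H} (hr : r ∈ R)
    (hrO : r ∈ Cfsg.pCore 2 H) :
    centralizer (Cfsg.pCore 2 H : Set H) ≤ Cfsg.pCore 2 H := by
  haveI : Fact (Nat.Prime 2) := ⟨Nat.prime_two⟩
  set C := centralizer (Cfsg.pCore 2 H : Set H)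
  haveI : C.Normal := Subgroup.normal_centralizer
  haveI : Group.IsSolvable C := Coprime.isSolvable_of_le
    (centralizer_le (Set.singleton_subset_iff.2 hrO)) (d.solv r hr)
  have hO' : Cfsg.pPrimeCore 2 C = ⊥ := by
    have h := eq_bot_of_odd_normal hO ((Cfsg.pPrimeCore 2 C).map C.subtype) fun hd =>
      (Nat.prime_two.coprime_iff_not_dvd.1 (Cores.coprime_card_pPrimeCore (G := C) 2).symm)
        (by rwa [card_map_of_injective (subtype_injective _)] at hd)
    exact (map_eq_bot_iff_of_injective _ (subtype_injective _)).1 h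
  have hle : (Cfsg.pCore 2 C).map C.subtype ≤ Cfsg.pCore 2 H :=
    Cores.le_pCore ((Cores.isPGroup_pCore 2).map _)
  intro x hx
  have h : (⟨x, hx⟩ : C) ∈ centralizer (Cfsg.fittingSubgroup C : Set C) := by
    rw [Cores.fittingSubgroup_eq_pCore 2 hO']
    exact mem_centralizer_iff.2 fun y hy => Subtype.ext
      (mem_centralizer_iff.1 hx _ (hle ⟨y, hy, rfl⟩))
  have h' := Cores.centralizer_fittingSubgroup_le h
  rw [Cores.fittingSubgroup_eq_pCore 2 hO'] at h'
  exact hle ⟨_, h', rfl⟩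

theorem Data.le_pCore_of_mem (d : Data P V R s) (hO : Cfsg.pPrimeCore 2 H = ⊥) {r : H}
    (hr : r ∈ R) (hrO : r ∈ Cfsg.pCore 2 H) : V ≤ Cfsg.pCore 2 H := fun v hv =>
  d.constrained hO hr hrO (mem_centralizer_iff.2 fun x hx =>
    (mem_centralizer_iff.1 (d.cen (d.pCore_le hx)) v hv).symm)

/-- If `V ≤ O_{2',2}`, the normaliser of `V` covers the group modulo the core. -/
theorem Data.split (d : Data P V R s) (hV : V ≤ Cfsg.pPrimePCore 2 H) (g : H) :
    ∃ o ∈ Cfsg.pPrimeCore 2 H, o * g ∈ normalizer (V : Set H) := by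
  haveI : Fact (Nat.Prime 2) := ⟨Nat.prime_two⟩
  set O := Cfsg.pPrimeCore 2 H
  have hcop := Cores.coprime_card_pPrimeCore (G := H) 2
  obtain ⟨P', s', d'⟩ := d.quot O (Nat.prime_two.coprime_iff_not_dvd.1 hcop.symm)
  have hle : V.map (MulAut.conj g).toMonoidHom ≤ O ⊔ V := Coprime.conj_map_le_iff.2 fun v hv => by
    have h1 : QuotientGroup.mk' O (g * v * g⁻¹) ∈ Cfsg.pCore 2 (H ⧸ O) := by
      rw [map_mul, map_mul, map_inv]
      exact (inferInstance : (Cfsg.pCore 2 (H ⧸ O)).Normal).conj_mem _ (hV hv) _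
    obtain ⟨w, hw, hwe⟩ := d'.closed _ ⟨v, hv, rfl⟩ (QuotientGroup.mk' O g)
      (by rw [← map_inv, ← map_mul, ← map_mul]; exact d'.pCore_le h1)
    rw [← map_inv, ← map_mul, ← map_mul] at hwe
    have h : g * v * g⁻¹ * w⁻¹ ∈ O := by
      rw [← QuotientGroup.eq_one_iff, show ((g * v * g⁻¹ * w⁻¹ : H) : H ⧸ O) =
        QuotientGroup.mk' O (g * v * g⁻¹ * w⁻¹) from rfl, map_mul, map_inv, hwe, mul_inv_cancel]
    have := mul_mem_sup h hw
    rwa [inv_mul_cancel_right] at this
  obtain ⟨n, hn, he⟩ := Coprime.exists_conj_eq (N := O) (H := V.map (MulAut.conj g).toMonoidHom)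
    (K := V) (.inr (by
      haveI := ((P.2.to_le d.le).map (MulAut.conj g).toMonoidHom).isNilpotent
      infer_instance))
    (by rw [normalizer_eq_top]; exact le_top) (by rw [normalizer_eq_top]; exact le_top) hle
    (Coprime.card_conj_map V g)
    (Components.coprime_card_of_isPGroup ((P.2.to_le d.le).map _) hcop).symm
  rw [Coprime.conj_map_map] at he
  exact ⟨n, hn, mem_normalizer_iff_map_conj_eq.2 he⟩

set_option maxHeartbeats 1600000 in
/-- The step with trivial core. -/
theorem Data.step (d : Data P V R s) (hO : Cfsg.pPrimeCore 2 H = ⊥)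
    (IH : ∀ K : Subgroup H, V ≤ K → K ≠ ⊤ → V.subgroupOf K ≤ Cfsg.pPrimePCore 2 K) :
    V ≤ Cfsg.pCore 2 H := by
  classical
  haveI : Fact (Nat.Prime 2) := ⟨Nat.prime_two⟩
  obtain ⟨r₀, hr₀, -⟩ := d.hyper V le_rfl (by rw [relIndex_self]; omega)
  by_cases hRz : ∃ r ∈ R, r ∈ center H
  · obtain ⟨r, hr, hrz⟩ := hRz
    haveI : (zpowers r).Normal := normal_of_mapsTo fun g x hx => by
      have hxz : x ∈ center H := zpowers_le.2 hrz hx
      rwa [mem_center_iff.1 hxz g, mul_inv_cancel_right]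
    exact d.le_pCore_of_mem hO hr
      (Cores.le_pCore (P.2.to_le (zpowers_le.2 (d.le (d.sub r hr).1))) (mem_zpowers r))
  push Not at hRz
  by_cases hVn : V.Normal
  · exact Cores.le_pCore (P.2.to_le d.le)
  -- the automizer of `V`
  set m := (centralizer (V : Set H)).relIndex (normalizer (V : Set H)) with hm
  have hm2 : ¬ 2 ∣ m := fun h => P.not_dvd_index (h.trans ((Dvd.intro _
    (relIndex_mul_index (centralizer_le_normalizer _))).trans (index_dvd_of_le d.cen)))
  have hm3 : ¬ 3 ∣ m := fun h => d.three (h.trans ((Dvd.intro _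
    (relIndex_mul_index (centralizer_le_normalizer _))).trans (index_dvd_card _)))
  have hpow : ∀ g ∈ normalizer (V : Set H), g ^ m ∈ centralizer (V : Set H) := by
    intro g hg
    haveI : ((centralizer (V : Set H)).subgroupOf (normalizer (V : Set H))).Normal := by
      refine (normal_subgroupOf_iff_le_normalizer (centralizer_le_normalizer _)).2 fun x hx =>
        mem_normalizer_of_mapsTo fun c hc => mem_centralizer_iff.2 fun v hv => ?_
      have h := mem_centralizer_iff.1 hc _ (d.conj_mem (inv_mem hx) hv)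
      calc v * (x * c * x⁻¹) = x * ((x⁻¹ * v * x⁻¹⁻¹) * c) * x⁻¹ := by group
        _ = x * (c * (x⁻¹ * v * x⁻¹⁻¹)) * x⁻¹ := by rw [h]
        _ = _ := by group
    exact Subgroup.pow_index_mem ((centralizer (V : Set H)).subgroupOf _) (⟨g, hg⟩ : normalizer _)
  -- a translation by a central element is trivial
  have key1 : ∀ g ∈ normalizer (V : Set H), ∀ v ∈ V, ∀ z ∈ V, z ∈ center H →
      g * v * g⁻¹ = v * z → z = 1 := by
    intro g hg v hv z hz hzc he
    have hi : ∀ k : ℕ, g ^ k * v * (g ^ k)⁻¹ = v * z ^ k := by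
      intro k
      induction k with
      | zero => simp
      | succ k ih =>
        rw [pow_succ' g, show g * g ^ k * v * (g * g ^ k)⁻¹ = g * (g ^ k * v * (g ^ k)⁻¹) * g⁻¹ by
          group, ih, show g * (v * z ^ k) * g⁻¹ = g * v * g⁻¹ * (g * z ^ k * g⁻¹) by group, he,
          mem_center_iff.1 (pow_mem hzc k) g, mul_inv_cancel_right, mul_assoc, ← pow_succ']
    have h := hi m
    rw [conj_eq_iff.2 (mem_centralizer_iff.1 (hpow g hg) v hv).symm, left_eq_mul] at h
    obtain ⟨j, hj⟩ : ∃ j, m = 2 * j + 1 := ⟨m / 2, by omega⟩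
    rwa [hj, pow_succ, pow_mul, d.elem.2 z hz, one_pow, one_mul] at h
  have fixZ : ∀ v ∈ V, (∀ g ∈ normalizer (V : Set H), g * v * g⁻¹ = v) → v ∈ center H :=
    fun v hv h => d.mem_center hO hv h
  have sZ : ∀ z ∈ V, z ∈ center H → s z ∈ center H := fun z hz hzc =>
    fixZ _ (d.maps z hz) fun g hg => by
      rw [← d.comm g hg z hz, mem_center_iff.1 hzc g, mul_inv_cancel_right]
  -- an element is not congruent to its image under `s`
  have key2 : ∀ g ∈ normalizer (V : Set H), ∀ a ∈ V, ∀ w ∈ V, w ∈ center H →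
      g * a * g⁻¹ = s a * w → a ∈ center H := by
    intro g hg a ha w hw hwc he
    have hc : ∀ x ∈ V, ∀ z, z ∈ center H → g * (x * z) * g⁻¹ = g * x * g⁻¹ * z := by
      intro x _ z hz
      rw [show g * (x * z) * g⁻¹ = g * x * g⁻¹ * (g * z * g⁻¹) by group,
        mem_center_iff.1 hz g, mul_inv_cancel_right]
    have hsa := d.maps a ha
    have hssa := d.maps _ hsa
    have hsw := d.maps w hw
    have hssw := d.maps _ hsw
    have h2 : g * (g * a * g⁻¹) * g⁻¹ = s (s a) * (s w * w) := by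
      rw [he, hc _ hsa w hwc, ← d.comm g hg a ha, he, d.mul _ hsa _ hw, mul_assoc]
    have h3 : g ^ 3 * a * (g ^ 3)⁻¹ = a * (s (s w) * (s w * w)) := by
      rw [show g ^ 3 * a * (g ^ 3)⁻¹ = g * (g * (g * a * g⁻¹) * g⁻¹) * g⁻¹ by
          rw [pow_three]; group, h2,
        hc _ hssa _ (mul_mem (sZ w hw hwc) hwc), ← d.comm g hg _ hsa, ← d.comm g hg a ha, he,
        d.mul _ hsa _ hw, d.mul _ hssa _ hsw, d.cube a ha, mul_assoc]
    have hz := key1 _ (pow_mem hg 3) a ha _ (mul_mem hssw (mul_mem hsw hw))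
      (mul_mem (sZ _ hsw (sZ w hw hwc)) (mul_mem (sZ w hw hwc) hwc)) h3
    rw [hz, mul_one] at h3
    have hg3 : g ^ 3 ∈ centralizer ({a} : Set H) := mem_centralizer_one_iff.2 h3
    have hgm : g ^ m ∈ centralizer ({a} : Set H) :=
      centralizer_le (Set.singleton_subset_iff.2 ha) (hpow g hg)
    have hga : g * a * g⁻¹ = a := by
      refine mem_centralizer_one_iff.1 ?_
      have hmd : g ^ m = (g ^ 3) ^ (m / 3) * g ^ (m % 3) := by
        rw [← pow_mul, ← pow_add, Nat.div_add_mod]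
      rw [hmd] at hgm
      have h1 := (mul_mem_cancel_left (pow_mem hg3 _)).1 hgm
      rcases (show m % 3 = 1 ∨ m % 3 = 2 by omega) with h | h <;> rw [h] at h1
      · rwa [pow_one] at h1
      · have h4 := mul_mem (inv_mem h1) hg3
        rwa [show (g ^ 2)⁻¹ * g ^ 3 = g by group] at h4
    have he' : s a = a * w := by
      rw [hga] at he
      nth_rewrite 2 [he]
      rw [mul_assoc, d.sq hw, mul_one]
    have hz' : s w * s (s w) * w = 1 := by
      rw [mul_assoc, d.vcomm hssw hw, ← mul_assoc, d.vcomm hsw hw, d.vcomm (mul_mem hw hsw) hssw]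
      rw [← hz, d.vcomm hsw hw]
    have hws : w * s (s w) = s w := by
      rw [d.vcomm hw hssw]
      calc s (s w) * w = (s w)⁻¹ * (s w * s (s w) * w) := by group
        _ = (s w)⁻¹ := by rw [hz', mul_one]
        _ = s w := d.inv_eq hsw
    have hfix : s (a * s w) = a * s w := by
      rw [d.mul a ha _ hsw, he', mul_assoc, hws]
    have := d.fixed _ (mul_mem ha hsw) hfix
    rw [mul_eq_one_iff_eq_inv, d.inv_eq hsw] at this
    exact this ▸ sZ w hw hwc
  -- a complement to the central part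
  obtain ⟨U, hUmax⟩ := Set.Finite.exists_maximal
    (s := {U : Subgroup H | U ≤ V ∧ U ⊓ center H = ⊥}) (Set.toFinite _)
    ⟨⊥, bot_le, bot_inf_eq _⟩
  obtain ⟨⟨hUV, hUz⟩, hmax⟩ := hUmax
  have hdec : ∀ v ∈ V, ∃ u ∈ U, ∃ z ∈ V, z ∈ center H ∧ v = u * z := by
    intro v hv
    by_cases hvU : v ∈ U
    · exact ⟨v, hvU, 1, one_mem V, one_mem _, (mul_one v).symm⟩
    have hz : (U ⊔ zpowers v) ⊓ center H ≠ ⊥ := fun h => hvU
      (hmax ⟨sup_le hUV (zpowers_le.2 hv), h⟩ le_sup_left (mem_sup_right (mem_zpowers v)))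
    obtain ⟨x, hx1⟩ := (Subgroup.ne_bot_iff_exists_ne_one (H := (U ⊔ zpowers v) ⊓ center H)).1 hz
    have hxc : (x : H) ∈ center H := x.2.2
    have hmul : (x : H) ∈ (U : Set H) * (zpowers v : Set H) := by
      rw [← coe_mul_of_left_le_normalizer_right U (zpowers v)
        (fun u hu => mem_normalizer_of_mapsTo fun y hy => by
          rwa [d.vcomm (hUV hu) (zpowers_le.2 hv hy), mul_inv_cancel_right])]
      exact x.2.1
    obtain ⟨u, hu, y, hy, hxy⟩ := Set.mem_mul.1 hmul
    obtain ⟨i, rfl⟩ := mem_zpowers_iff.1 hy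
    rcases Int.even_or_odd i with ⟨j, rfl⟩ | ⟨j, rfl⟩
    · rw [← two_mul, zpow_mul, zpow_two, d.sq hv, one_zpow, mul_one] at hxy
      refine absurd ?_ hx1
      have h : u ∈ U ⊓ center H := ⟨hu, hxy ▸ hxc⟩
      rw [hUz, mem_bot] at h
      exact Subtype.ext (hxy.symm.trans h)
    · rw [zpow_add_one, zpow_mul, zpow_two, d.sq hv, one_zpow, one_mul] at hxy
      exact ⟨u⁻¹, inv_mem hu, u * v, mul_mem (hUV hu) hv, hxy ▸ hxc, by group⟩
  have hU8 : 2 ^ 3 ≤ Nat.card U := by
    obtain ⟨k, hk⟩ := (P.2.to_le (hUV.trans d.le)).exists_card_eq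
    by_contra hlt
    have hk2 : k ≤ 2 := by
      by_contra h
      exact hlt (hk ▸ Nat.pow_le_pow_right (by norm_num) (by omega))
    set Z := (center H).subgroupOf V
    set Q := ↥V ⧸ Z
    have hcard : Nat.card Q ≤ Nat.card U := Nat.card_le_card_of_surjective
      (fun u : U => ((⟨u, hUV u.2⟩ : V) : Q)) fun x => by
        obtain ⟨v, rfl⟩ := QuotientGroup.mk_surjective x
        obtain ⟨u, hu, z, hz, hzc, he⟩ := hdec v v.2
        refine ⟨⟨u, hu⟩, QuotientGroup.eq.2 ?_⟩
        show u⁻¹ * (v : H) ∈ center H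
        rwa [he, inv_mul_cancel_left]
    refine hRz r₀ hr₀ (fixZ r₀ (d.sub r₀ hr₀).1 fun g hg => ?_)
    let φ : normalizer (V : Set H) →* Equiv.Perm Q :=
      { toFun := fun g =>
          { toFun := Quotient.map' (fun v : V => ⟨(g : H) * v * (g : H)⁻¹, d.conj_mem g.2 v.2⟩)
              fun v w h => by
                rw [QuotientGroup.leftRel_apply] at h ⊢
                show ((g : H) * v * (g : H)⁻¹)⁻¹ * ((g : H) * w * (g : H)⁻¹) ∈ center H
                have h' : (v : H)⁻¹ * w ∈ center H := h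
                rwa [show ((g : H) * v * (g : H)⁻¹)⁻¹ * ((g : H) * w * (g : H)⁻¹) =
                  (g : H) * ((v : H)⁻¹ * w) * (g : H)⁻¹ by group, mem_center_iff.1 h' g,
                  mul_inv_cancel_right]
            invFun := Quotient.map'
              (fun v : V => ⟨(g : H)⁻¹ * v * (g : H)⁻¹⁻¹, d.conj_mem (inv_mem g.2) v.2⟩)
              fun v w h => by
                rw [QuotientGroup.leftRel_apply] at h ⊢
                show ((g : H)⁻¹ * v * (g : H)⁻¹⁻¹)⁻¹ * ((g : H)⁻¹ * w * (g : H)⁻¹⁻¹) ∈ center H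
                have h' : (v : H)⁻¹ * w ∈ center H := h
                rwa [show ((g : H)⁻¹ * v * (g : H)⁻¹⁻¹)⁻¹ * ((g : H)⁻¹ * w * (g : H)⁻¹⁻¹) =
                  (g : H)⁻¹ * ((v : H)⁻¹ * w) * (g : H)⁻¹⁻¹ by group, mem_center_iff.1 h' (g : H)⁻¹,
                  mul_inv_cancel_right]
            left_inv := fun x => Quotient.inductionOn' x fun v =>
              congrArg Quotient.mk'' (Subtype.ext (by group))
            right_inv := fun x => Quotient.inductionOn' x fun v =>
              congrArg Quotient.mk'' (Subtype.ext (by group)) }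
        map_one' := Equiv.ext fun x => Quotient.inductionOn' x fun v =>
          congrArg Quotient.mk'' (Subtype.ext (by simp))
        map_mul' := fun g h => Equiv.ext fun x => Quotient.inductionOn' x fun v =>
          congrArg Quotient.mk'' (Subtype.ext (by simp only [Subgroup.coe_mul]; group)) }
    have hphim : φ ⟨g, hg⟩ ^ m = 1 := by
      rw [← map_pow]
      refine Equiv.ext fun x => Quotient.inductionOn' x fun v => ?_
      refine congrArg Quotient.mk'' (Subtype.ext ?_)
      show g ^ m * (v : H) * (g ^ m)⁻¹ = v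
      exact conj_eq_iff.2 (mem_centralizer_iff.1 (hpow g hg) v v.2).symm
    have hphi : φ ⟨g, hg⟩ = 1 := by
      haveI : Fintype Q := Fintype.ofFinite Q
      have h24 : orderOf (φ ⟨g, hg⟩) ∣ 24 := by
        refine orderOf_dvd_natCard (φ ⟨g, hg⟩) |>.trans ?_
        rw [Nat.card_perm]
        exact Nat.factorial_dvd_factorial (n := 4) (hcard.trans
          (hk ▸ (Nat.pow_le_pow_right (by norm_num) hk2 : 2 ^ k ≤ 2 ^ 2)))
      have hcop : Nat.Coprime m 24 :=
        ((Nat.prime_two.coprime_iff_not_dvd.2 hm2).pow_left 3).mul_left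
          (Nat.prime_three.coprime_iff_not_dvd.2 hm3) |>.symm
      have := Nat.eq_one_of_dvd_coprimes hcop (orderOf_dvd_of_pow_eq_one hphim) h24
      exact orderOf_eq_one_iff.1 this
    have hq := Equiv.ext_iff.1 hphi ((⟨r₀, (d.sub r₀ hr₀).1⟩ : V) : Q)
    have hq' : ((⟨g * r₀ * g⁻¹, d.conj_mem hg (d.sub r₀ hr₀).1⟩ : V) : Q) =
        ((⟨r₀, (d.sub r₀ hr₀).1⟩ : V) : Q) := hq
    have hz : (g * r₀ * g⁻¹)⁻¹ * r₀ ∈ center H := (QuotientGroup.eq.1 hq' :)
    have hgr := d.conj_mem hg (d.sub r₀ hr₀).1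
    rw [d.inv_eq hgr, d.vcomm hgr (d.sub r₀ hr₀).1] at hz
    have h1 := key1 g hg r₀ (d.sub r₀ hr₀).1 _ (mul_mem (d.sub r₀ hr₀).1 hgr) hz
      (by rw [← mul_assoc, d.sq (d.sub r₀ hr₀).1, one_mul])
    rw [mul_eq_one_iff_inv_eq, d.inv_eq (d.sub r₀ hr₀).1] at h1
    exact h1.symm
  -- the signalizer functor
  have hUc : ∀ a ∈ U, a ≠ 1 → a ∉ center H := fun a ha h1 hac => h1 (by
    have h : a ∈ U ⊓ center H := ⟨ha, hac⟩
    rwa [hUz, mem_bot] at h)
  have hproper : ∀ v : H, v ∉ center H → centralizer ({v} : Set H) ≠ ⊤ := fun v hv h => hv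
    (mem_center_iff.2 fun g => mem_centralizer_singleton_iff.1 (h ▸ mem_top g))
  have hbal : ∀ a ∈ U, a ≠ 1 → ∀ b ∈ U, b ≠ 1 →
      core a ⊓ centralizer ({b} : Set H) ≤ core b := by
    intro a ha ha1 b hb hb1
    set K := centralizer ({b} : Set H)
    have hVK : V ≤ K := d.v_le_centralizer (hUV hb)
    obtain ⟨PK, sK, dK⟩ := d.restrict K hVK
    have hIH := IH K hVK (hproper b (hUc b hb hb1))
    set O := Cfsg.pPrimeCore 2 K
    set π := QuotientGroup.mk' O
    have hcopO := Cores.coprime_card_pPrimeCore (G := K) 2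
    obtain ⟨P', s', d'⟩ := dK.quot O (Nat.prime_two.coprime_iff_not_dvd.1 hcopO.symm)
    have hO' : Cfsg.pPrimeCore 2 (K ⧸ O) = ⊥ := Components.pPrimeCore_quotient_eq_bot
    obtain ⟨r, hr, -⟩ := dK.hyper (V.subgroupOf K) le_rfl (by rw [relIndex_self]; omega)
    have hcon := d'.constrained hO' ⟨r, hr, rfl⟩ (hIH (dK.sub r hr).1)
    rintro x ⟨hxa, hxb⟩
    have hodd : ∀ c : K, (c : H) ∈ core a → π c ∈ Cfsg.pCore 2 (K ⧸ O) → π c = 1 := by
      intro c hc hc'
      obtain ⟨k, hk⟩ := IsPGroup.iff_orderOf.1 (Cores.isPGroup_pCore (G := K ⧸ O) 2) ⟨_, hc'⟩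
      rw [← Subgroup.orderOf_coe] at hk
      have h1 : orderOf (π c) ∣ Nat.card (core a) := by
        refine (orderOf_map_dvd π c).trans ?_
        rw [← Subgroup.orderOf_coe c]
        exact Subgroup.orderOf_dvd_natCard _ hc
      have hk' : π c = 1 := by
        rcases Nat.eq_zero_or_pos k with rfl | hk0
        · exact orderOf_eq_one_iff.1 (by simpa using hk)
        · exact absurd ((dvd_pow_self 2 hk0.ne').trans (hk ▸ h1)) (not_dvd_core a)
      exact hk'
    have hcen : π ⟨x, hxb⟩ ∈ centralizer (Cfsg.pCore 2 (K ⧸ O) : Set (K ⧸ O)) := by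
      refine mem_centralizer_iff.2 fun y hy => ?_
      have hyP : y ∈ (P' : Subgroup (K ⧸ O)) := d'.pCore_le hy
      have hP'eq : ∀ z : K ⧸ O, z ∈ (P' : Subgroup (K ⧸ O)) →
          z ∈ centralizer (((V.subgroupOf K).map π : Subgroup (K ⧸ O)) : Set (K ⧸ O)) := d'.cen
      have ha' : π ⟨a, hVK (hUV ha)⟩ ∈ (V.subgroupOf K).map π := ⟨_, hUV ha, rfl⟩
      have hy' : y ∈ centralizer ((zpowers (⟨a, hVK (hUV ha)⟩ : K)).map π : Set (K ⧸ O)) := by
        refine centralizer_le ?_ (hP'eq y hyP)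
        refine SetLike.coe_subset_coe.2 (map_mono (zpowers_le.2 (hUV ha)))
      rw [Components.centralizer_map_mk (p := 2) hcopO
        ((Components.Signalizer.isPGroup_of_elementary dK.elem).to_le
          (zpowers_le.2 (hUV ha : (⟨a, hVK (hUV ha)⟩ : K) ∈ V.subgroupOf K)))] at hy'
      obtain ⟨p, hp, rfl⟩ := hy'
      have hpa : (p : H) ∈ centralizer ({a} : Set H) := mem_centralizer_singleton_iff.2
        (congrArg Subtype.val (mem_centralizer_iff.1 hp _ (mem_zpowers _))).symm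
      have h1 : π (⟨x, hxb⟩ * p * ⟨x, hxb⟩⁻¹ * p⁻¹) ∈ Cfsg.pCore 2 (K ⧸ O) := by
        rw [map_mul, map_mul, map_mul, map_inv, map_inv]
        exact mul_mem ((inferInstance : (Cfsg.pCore 2 (K ⧸ O)).Normal).conj_mem _ hy _) (inv_mem hy)
      have h2 := hodd _ (by
        simp only [Subgroup.coe_mul, InvMemClass.coe_inv]
        rw [show x * (p : H) * x⁻¹ * (p : H)⁻¹ = x * ((p : H) * x⁻¹ * (p : H)⁻¹) by group]
        exact mul_mem hxa (conj_mem_core hpa (inv_mem hxa))) h1
      rw [map_mul, map_mul, map_mul, map_inv, map_inv, mul_inv_eq_one, mul_inv_eq_iff_eq_mul] at h2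
      exact h2.symm
    exact ⟨⟨x, hxb⟩, (QuotientGroup.eq_one_iff _).1 (hodd ⟨x, hxb⟩ hxa (hcon hcen)), rfl⟩
  obtain ⟨hWodd, -⟩ := Cfsg.Agent.S0217.result (p := 2) U
    (fun a ha b hb => d.vcomm (hUV ha) (hUV hb)) (fun a ha => d.elem.2 a (hUV ha)) hU8 core
    (fun a _ _ => core_le a) (fun a _ _ => not_dvd_core a)
    (fun a ha _ b hb x hx => conj_mem_core (d.v_le_centralizer (hUV ha) (hUV hb)) hx)
    (fun a _ _ => Cfsg.Agent.S0205.result
      (Nat.not_even_iff_odd.1 fun h => not_dvd_core a (even_iff_two_dvd.1 h)))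
    hbal
  set W := ⨆ a : {a : H // a ∈ U ∧ a ≠ 1}, core (a : H) with hW
  have hθW : ∀ v ∈ V, v ∉ center H → core v ≤ W := by
    intro v hv hvc
    obtain ⟨u, hu, z, hz, hzc, he⟩ := hdec v hv
    have hu1 : u ≠ 1 := fun h => hvc (by rw [he, h, one_mul]; exact hzc)
    have hcu : centralizer ({u} : Set H) = centralizer ({v} : Set H) := by
      ext g
      rw [mem_centralizer_one_iff, mem_centralizer_one_iff, he,
        show g * (u * z) * g⁻¹ = g * u * g⁻¹ * (g * z * g⁻¹) by group, mem_center_iff.1 hzc g,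
        mul_inv_cancel_right, mul_left_inj]
    have hcore : core v = core u := by simp only [core]; rw [hcu]
    rw [hcore]
    exact le_iSup (fun a : {a : H // a ∈ U ∧ a ≠ 1} => core (a : H)) ⟨u, hu, hu1⟩
  have hWn : normalizer (V : Set H) ≤ normalizer (W : Set H) := fun g hg =>
    mem_normalizer_iff_map_conj_eq.2 (eq_of_le_of_card_ge (by
      rw [hW, Subgroup.map_iSup]
      refine iSup_le fun a => (core_conj g a).trans (hθW _ (d.conj_mem hg (hUV a.2.1)) ?_)
      intro h
      refine hUc _ a.2.1 a.2.2 ?_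
      have := (inferInstance : (center H).Normal).conj_mem _ h g⁻¹
      rwa [show g⁻¹ * (g * (a : H) * g⁻¹) * g⁻¹⁻¹ = (a : H) by group] at this)
      (Coprime.card_conj_map W g).ge)
  obtain ⟨M, hVM, hWM, hMtop, hM0, hM1⟩ : ∃ M : Subgroup H, normalizer (V : Set H) ≤ M ∧
      W ≤ M ∧ M ≠ ⊤ ∧ (W = ⊥ → M = normalizer (V : Set H)) ∧
      (W ≠ ⊥ → M = normalizer (W : Set H)) := by
    by_cases h : W = ⊥
    · exact ⟨normalizer (V : Set H), le_rfl, h ▸ bot_le,
        fun ht => hVn (normalizer_eq_top_iff.1 ht), fun _ => rfl, fun h' => absurd h h'⟩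
    · refine ⟨normalizer (W : Set H), hWn, le_normalizer, fun ht => h ?_, fun h' => absurd h' h,
        fun _ => rfl⟩
      haveI := normalizer_eq_top_iff.1 ht
      exact eq_bot_of_odd_normal hO W hWodd
  have hPM : (P : Subgroup H) ≤ M := d.sylow_le_normalizer.trans hVM
  -- covering of centralisers
  have hcov : ∀ w : H, w ∉ center H → V ≤ centralizer ({w} : Set H) →
      core w ≤ M → centralizer ({w} : Set H) ≤ M := by
    intro w hw hVK hwM g hg
    obtain ⟨PK, sK, dK⟩ := d.restrict _ hVK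
    obtain ⟨o, ho, hog⟩ := dK.split (IH _ hVK (hproper w hw)) ⟨g, hg⟩
    have h1 : (o : H) * g ∈ normalizer (V : Set H) := mem_normalizer_of_mapsTo fun v hv =>
      (mem_normalizer_iff.1 hog ⟨v, hVK hv⟩).1 hv
    have h2 : (o : H) ∈ M := hwM ⟨o, ho, rfl⟩
    exact (mul_mem_cancel_left h2).1 (hVM h1)
  have hCv : ∀ v ∈ V, v ∉ center H → centralizer ({v} : Set H) ≤ M := fun v hv hvc =>
    hcov v hvc (d.v_le_centralizer hv) ((hθW v hv hvc).trans hWM)
  have hCw : ∀ w ∈ (P : Subgroup H), w ∉ center H → centralizer ({w} : Set H) ≤ M := by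
    intro w hwP hwc
    have hVK : V ≤ centralizer ({w} : Set H) := fun v hv => mem_centralizer_singleton_iff.2
      (mem_centralizer_iff.1 (d.cen hwP) v hv)
    refine hcov w hwc hVK ((Components.Signalizer.le_iSup_centralizer_hyperplanes d.elem le_rfl
      (not_dvd_core w) fun v hv => mem_normalizer_of_mapsTo fun x hx =>
        conj_mem_core (hVK hv) hx).trans (iSup_le fun D => ?_))
    obtain ⟨r, hr, hrD⟩ := d.hyper D D.2.1 D.2.2
    exact (inf_le_right.trans (centralizer_le (Set.singleton_subset_iff.2 hrD))).trans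
      (hCv r (d.sub r hr).1 (hRz r hr))
  -- the graph
  have hgraph : ∀ a ∈ R, ∀ c : H, c * s a * c⁻¹ ∈ M := by
    intro a ha c
    have hav := (d.sub a ha).1
    have hsa := d.maps a hav
    have hac := hRz a ha
    set y := c * s a * c⁻¹ with hy
    have hyy : y * y = 1 := by
      rw [hy, show c * s a * c⁻¹ * (c * s a * c⁻¹) = c * (s a * s a) * c⁻¹ by group, d.sq hsa]
      group
    have haa := d.sq hav
    have hainv : a * (a * y) * a = (a * y)⁻¹ := by
      rw [mul_inv_rev, inv_eq_of_mul_eq_one_right hyy, d.inv_eq hav, ← mul_assoc, haa, one_mul]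
    have hflip : ∀ j : ℕ, (a * y) ^ j * a * ((a * y) ^ j)⁻¹ = (a * y) ^ (2 * j) * a := by
      intro j
      have h : SemiconjBy a (a * y) (a * y)⁻¹ := by
        show a * (a * y) = (a * y)⁻¹ * a
        rw [← hainv, mul_assoc, haa, mul_one]
      have h' := (h.pow_right j).eq
      rw [inv_pow] at h'
      have h2 : a * ((a * y) ^ j)⁻¹ = (a * y) ^ j * a := by
        calc a * ((a * y) ^ j)⁻¹ = (a * y) ^ j * (((a * y) ^ j)⁻¹ * a) * ((a * y) ^ j)⁻¹ := by group
          _ = (a * y) ^ j * (a * (a * y) ^ j) * ((a * y) ^ j)⁻¹ := by rw [h']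
          _ = _ := by group
      rw [mul_assoc, h2, two_mul, pow_add, mul_assoc]
    have hyfin : ∀ e : ℕ, e + 1 = orderOf (a * y) → (a * y) ^ e * a = y := by
      intro e he
      have h : (a * y) ^ e = (a * y)⁻¹ := eq_inv_of_mul_eq_one_left
        (by rw [← pow_succ, he, pow_orderOf_eq_one])
      rw [h, mul_inv_rev, inv_eq_of_mul_eq_one_right hyy, d.inv_eq hav, mul_assoc, haa, mul_one]
    rcases Nat.even_or_odd (orderOf (a * y)) with ⟨k, hk⟩ | ⟨j, hj⟩
    swap
    · -- odd order: `a` is conjugate to `s a`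
      have h1 : c⁻¹ * (a * y) ^ j * a * (c⁻¹ * (a * y) ^ j)⁻¹ = s a := by
        calc _ = c⁻¹ * ((a * y) ^ j * a * ((a * y) ^ j)⁻¹) * c := by group
          _ = c⁻¹ * y * c := by rw [hflip, hyfin (2 * j) hj.symm]
          _ = s a := by rw [hy]; group
      obtain ⟨n, hn, hne⟩ := d.burnside hav (by rw [h1]; exact hsa)
      refine absurd (key2 n hn a hav 1 (one_mem V) (one_mem _) ?_) hac
      rw [hne, h1, mul_one]
    have hk0 : 0 < k := by have := orderOf_pos (a * y); omega
    set w := (a * y) ^ k with hw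
    have hww : w * w = 1 := by rw [hw, ← pow_add, ← hk, pow_orderOf_eq_one]
    have hw1 : w ≠ 1 := fun h => by
      have := Nat.le_of_dvd hk0 (orderOf_dvd_of_pow_eq_one h)
      omega
    have hwi : w⁻¹ = w := inv_eq_of_mul_eq_one_right hww
    have haw : a * w = w * a := by
      have h : SemiconjBy a (a * y) (a * y)⁻¹ := by
        show a * (a * y) = (a * y)⁻¹ * a
        rw [← hainv, mul_assoc, haa, mul_one]
      have h' := (h.pow_right k).eq
      rwa [inv_pow, ← hw, hwi] at h'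
    have hyw : y * w = w * y := by
      have h1 : w * (a * y) = (a * y) * w := ((Commute.refl (a * y)).pow_left k).eq
      calc y * w = a * ((a * y) * w) := by
            rw [← mul_assoc, ← mul_assoc a a, haa, one_mul]
        _ = a * (w * (a * y)) := by rw [h1]
        _ = (a * w) * (a * y) := by group
        _ = w * (a * a) * y := by rw [haw]; group
        _ = _ := by rw [haa, mul_one]
    by_cases hwc : w ∈ center H
    · exfalso
      obtain ⟨c₀, hc₀⟩ := exists_conj_mem_sylow P (x := w) (k := 1) (by rw [pow_one, pow_two, hww])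
      rw [mem_center_iff.1 hwc c₀, mul_inv_cancel_right] at hc₀
      have hawP : a * w ∈ (P : Subgroup H) := mul_mem (d.le hav) hc₀
      rcases Nat.even_or_odd k with ⟨i, hi⟩ | ⟨i, hi⟩
      · have h1 : (a * y) ^ i * a * ((a * y) ^ i)⁻¹ = a * w := by
          rw [hflip, show 2 * i = k by omega, ← hw, haw]
        have hV : a * w ∈ V := h1 ▸ d.closed a hav _ (h1 ▸ hawP)
        have hwV : w ∈ V := (mul_mem_cancel_left hav).1 hV
        obtain ⟨n, hn, hne⟩ := d.burnside hav (by rw [h1]; exact hV)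
        exact hw1 (key1 n hn a hav w hwV hwc (hne.trans h1))
      · set g := c⁻¹ * (a * y) ^ i with hg
        have h1 : g * (a * w) * g⁻¹ = s a := by
          have h2 : (a * y) ^ i * (a * w) * ((a * y) ^ i)⁻¹ = y := by
            rw [show (a * y) ^ i * (a * w) * ((a * y) ^ i)⁻¹ =
              (a * y) ^ i * a * ((a * y) ^ i)⁻¹ * ((a * y) ^ i * w * ((a * y) ^ i)⁻¹) by group,
              hflip, mem_center_iff.1 hwc ((a * y) ^ i), mul_inv_cancel_right, mul_assoc, haw, hw,
              ← mul_assoc, ← pow_add]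
            exact hyfin _ (by omega)
          calc g * (a * w) * g⁻¹ = c⁻¹ * ((a * y) ^ i * (a * w) * ((a * y) ^ i)⁻¹) * c := by
                rw [hg]; group
            _ = c⁻¹ * y * c := by rw [h2]
            _ = s a := by rw [hy]; group
        have hV : a * w ∈ V := by
          have h2 : g⁻¹ * s a * g⁻¹⁻¹ = a * w := by rw [← h1]; group
          exact h2 ▸ d.closed _ hsa _ (h2 ▸ hawP)
        have hwV : w ∈ V := (mul_mem_cancel_left hav).1 hV
        obtain ⟨n, hn, hne⟩ := d.burnside hV (by rw [h1]; exact hsa)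
        refine hac (key2 n hn a hav w hwV hwc ?_)
        rw [h1, show n * (a * w) * n⁻¹ = n * a * n⁻¹ * (n * w * n⁻¹) by group,
          mem_center_iff.1 hwc n, mul_inv_cancel_right] at hne
        rw [← hne, mul_assoc (n * a * n⁻¹) w w, hww, mul_one]
    · set C := centralizer ({a} : Set H)
      let Q : Sylow 2 C := P.subtype (d.le_centralizer_singleton hav)
      obtain ⟨c₀, hc₀⟩ := exists_conj_mem_sylow Q
        (x := (⟨w, mem_centralizer_singleton_iff.2 haw.symm⟩ : C)) (k := 1)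
        (Subtype.ext (by simp [pow_two, hww]))
      have hc₀M : (c₀ : H) ∈ M := hCv a hav hac c₀.2
      have hw' : (c₀ : H) * w * (c₀ : H)⁻¹ ∈ (P : Subgroup H) := hc₀
      have hwc' : (c₀ : H) * w * (c₀ : H)⁻¹ ∉ center H := fun h => hwc (by
        have := (inferInstance : (center H).Normal).conj_mem _ h (c₀ : H)⁻¹
        rwa [show (c₀ : H)⁻¹ * ((c₀ : H) * w * (c₀ : H)⁻¹) * (c₀ : H)⁻¹⁻¹ = w by group] at this)
      have h1 : (c₀ : H) * y * (c₀ : H)⁻¹ ∈ M := hCw _ hw' hwc' (mem_centralizer_singleton_iff.2 (by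
        calc (c₀ : H) * y * (c₀ : H)⁻¹ * ((c₀ : H) * w * (c₀ : H)⁻¹)
            = (c₀ : H) * (y * w) * (c₀ : H)⁻¹ := by group
          _ = (c₀ : H) * (w * y) * (c₀ : H)⁻¹ := by rw [hyw]
          _ = _ := by group))
      have := mul_mem (mul_mem (inv_mem hc₀M) h1) hc₀M
      rwa [show (c₀ : H)⁻¹ * ((c₀ : H) * y * (c₀ : H)⁻¹) * (c₀ : H) = y by group] at this
  set N := normalClosure R
  have hNM : N ≤ M := (closure_le _).2 fun x hx => by
    obtain ⟨r, hr, hrx⟩ := Group.mem_conjugatesOfSet_iff.1 hx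
    obtain ⟨c, rfl⟩ := isConj_iff.1 hrx
    have h := hgraph _ (d.invR _ (d.invR r hr)) c
    rwa [d.cube r (d.sub r hr).1] at h
  have hr₀N : r₀ ∈ N := subset_normalClosure hr₀
  by_cases hW0 : W = ⊥
  · rw [hM0 hW0] at hNM
    haveI : ((N ⊓ V).subgroupOf N).Normal := (normal_subgroupOf_iff_le_normalizer inf_le_left).2
      ((le_inf le_normalizer hNM).trans inf_normalizer_le_normalizer_inf)
    refine d.le_pCore_of_mem hO hr₀ ?_
    have h1 : (N ⊓ V).subgroupOf N ≤ Cfsg.pCore 2 N := Cores.le_pCore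
      (((P.2.to_le (inf_le_right.trans d.le : N ⊓ V ≤ _))).comap_of_injective _ N.subtype_injective)
    have h2 : (Cfsg.pCore 2 N).map N.subtype ≤ Cfsg.pCore 2 H :=
      Cores.le_pCore ((Cores.isPGroup_pCore 2).map _)
    exact h2 ⟨⟨r₀, hr₀N⟩, h1 ⟨hr₀N, (d.sub r₀ hr₀).1⟩, rfl⟩
  · exfalso
    rw [hM1 hW0] at hNM
    have hNW : N ⊓ W = ⊥ := eq_bot_of_odd_subnormal hO N inf_le_left
      ((le_inf le_normalizer hNM).trans inf_normalizer_le_normalizer_inf)
      fun h => hWodd (h.trans (card_dvd_of_le inf_le_right))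
    have hWC : W ≤ centralizer (N : Set H) := fun x hx => mem_centralizer_iff.2 fun n hn => by
      have h1 : n * x * n⁻¹ * x⁻¹ ∈ N ⊓ W := by
        refine mem_inf.2 ⟨?_, mul_mem ((mem_normalizer_iff.1 (hNM hn) x).1 hx) (inv_mem hx)⟩
        rw [show n * x * n⁻¹ * x⁻¹ = n * (x * n⁻¹ * x⁻¹) by group]
        exact mul_mem hn ((inferInstance : N.Normal).conj_mem _ (inv_mem hn) x)
      rwa [hNW, mem_bot, mul_inv_eq_one, mul_inv_eq_iff_eq_mul] at h1
    refine hW0 (eq_bot_of_odd_subnormal hO (centralizer (N : Set H)) hWC ?_ hWodd)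
    rw [← hM1 hW0]
    exact (centralizer_le (Set.singleton_subset_iff.2 hr₀N)).trans
      (hCv r₀ (d.sub r₀ hr₀).1 (hRz r₀ hr₀))

theorem main_aux : ∀ (n : ℕ) (H : Type u) [Group H] [Finite H], Nat.card H = n →
    ∀ (P : Sylow 2 H) (V : Subgroup H) (R : Set H) (s : H → H), Data P V R s →
      V ≤ Cfsg.pPrimePCore 2 H := by
  intro n
  induction n using Nat.strong_induction_on with
  | _ n ih =>
  intro H _ _ hn P V R s d
  subst hn
  haveI : Fact (Nat.Prime 2) := ⟨Nat.prime_two⟩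
  by_cases hO : Cfsg.pPrimeCore 2 H = ⊥
  · have h := d.step hO fun K hVK hK => by
      obtain ⟨PK, sK, dK⟩ := d.restrict K hVK
      exact ih _ (lt_of_le_of_ne (card_le_card_group K) fun h => hK (eq_top_of_card_eq K h))
        K rfl PK _ _ _ dK
    intro v hv
    show QuotientGroup.mk' (Cfsg.pPrimeCore 2 H) v ∈ Cfsg.pCore 2 (H ⧸ Cfsg.pPrimeCore 2 H)
    haveI : ((Cfsg.pCore 2 H).map (QuotientGroup.mk' (Cfsg.pPrimeCore 2 H))).Normal :=
      Subgroup.Normal.map inferInstance _ (QuotientGroup.mk'_surjective _)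
    exact Cores.le_pCore ((Cores.isPGroup_pCore 2).map _) ⟨v, h hv, rfl⟩
  · obtain ⟨P', s', d'⟩ := d.quot (Cfsg.pPrimeCore 2 H)
      (Nat.prime_two.coprime_iff_not_dvd.1 (Cores.coprime_card_pPrimeCore (G := H) 2).symm)
    have hlt : Nat.card (H ⧸ Cfsg.pPrimeCore 2 H) < Nat.card H := by
      rw [card_eq_card_quotient_mul_card_subgroup (Cfsg.pPrimeCore 2 H)]
      exact lt_mul_of_one_lt_right Nat.card_pos
        ((Subgroup.one_lt_card_iff_ne_bot _).2 hO)
    have h := ih _ hlt _ rfl P' _ _ _ d'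
    intro v hv
    have hv' := h ⟨v, hv, rfl⟩
    have hO' : Cfsg.pPrimeCore 2 (H ⧸ Cfsg.pPrimeCore 2 H) = ⊥ :=
      Components.pPrimeCore_quotient_eq_bot
    have h2 : Cfsg.pPrimePCore 2 (H ⧸ Cfsg.pPrimeCore 2 H) ≤
        Cfsg.pCore 2 (H ⧸ Cfsg.pPrimeCore 2 H) := by
      haveI : (Cfsg.pPrimePCore 2 (H ⧸ Cfsg.pPrimeCore 2 H)).Normal := by
        unfold Cfsg.pPrimePCore; infer_instance
      refine Cores.le_pCore ?_
      refine (Cores.isPGroup_pCore 2).comap_of_injective _ ?_
      rw [← MonoidHom.ker_eq_bot_iff, QuotientGroup.ker_mk', hO']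
    exact h2 hv'

/-- `V ≤ O_{2',2}(H)`. -/
theorem Data.le_pPrimePCore (d : Data P V R s) : V ≤ Cfsg.pPrimePCore 2 H :=
  main_aux _ H rfl P V R s d

end CfsgLib.OrbitClosed
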