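import Cfsg.Agent.Lib.OrbitClosed.Main
import Cfsg.Agent.Lib.OrbitClosed.Fusion
import Cfsg.Agent.Lib.FTApps.RealGraph.Basic

/-!
A group of order prime to three with an automorphism of order three whose fixed points commute and
have odd order is solvable.
-/

set_option autoImplicit false
set_option linter.unusedSectionVars false
set_option linter.style.haveILetI false
set_option linter.unusedVariables false

namespace CfsgLib.OrbitClosed

open Subgroup CfsgLib.Solvable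
open scoped Pointwise

universe u

variable {G : Type u} [Group G] [Finite G]

/-- In an elementary abelian group with a family of commuting operators, a hyperplane contains an
element fixed only by operators which are trivial. -/
theorem exists_regular_mem {σ : MulAut G} (V U : Subgroup G) (N : Subgroup G)
    (hsq : ∀ v ∈ V, v * v = 1) (hcom : ∀ v ∈ V, ∀ w ∈ V, v * w = w * v)
    (hN : ∀ n ∈ N, ∀ v ∈ V, n * v * n⁻¹ ∈ V)
    (hab : ∀ n ∈ N, ∀ n' ∈ N, ∀ v ∈ V,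
      n * (n' * v * n'⁻¹) * n⁻¹ = n' * (n * v * n⁻¹) * n'⁻¹)
    (hσ : ∀ n ∈ N, ∀ v ∈ V, σ (n * v * n⁻¹) = n * σ v * n⁻¹)
    (hfix : ∀ v ∈ V, σ v = v → v = 1)
    (m : ℕ) (hm : Odd m) (hpow : ∀ n ∈ N, ∀ v ∈ V, n ^ m * v * (n ^ m)⁻¹ = v)
    (hU : ∀ v ∈ V, ∀ w ∈ V, v ∉ U → w ∉ U → v * w ∈ U) :
    ∀ (k : ℕ) (W : Subgroup G), Nat.card W = k → W ≤ V → W ≠ ⊥ → (∀ x ∈ W, σ x ∈ W) →
      (∀ n ∈ N, ∀ x ∈ W, n * x * n⁻¹ ∈ W) →
      ∃ r ∈ W, r ∈ U ∧ r ≠ 1 ∧
        ∀ n ∈ N, n * r * n⁻¹ = r → ∀ w ∈ W, n * w * n⁻¹ = w := by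
  intro k
  induction k using Nat.strong_induction_on with
  | _ k ih =>
  intro W hk hWV hW hWσ hWN
  by_cases hall : ∀ n ∈ N, ∀ w ∈ W, w ≠ 1 → n * w * n⁻¹ = w → ∀ x ∈ W, n * x * n⁻¹ = x
  · suffices hr : ∃ r ∈ W, r ∈ U ∧ r ≠ 1 by
      obtain ⟨r, hrW, hrU, hr1⟩ := hr
      exact ⟨r, hrW, hrU, hr1, fun n hn he => hall n hn r hrW hr1 he⟩
    obtain ⟨⟨w, hw⟩, hw'⟩ := Subgroup.ne_bot_iff_exists_ne_one.1 hW
    have hw1 : w ≠ 1 := fun h => hw' (Subtype.ext h)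
    have hσw1 : σ w ≠ 1 := fun h => hw1 (σ.injective (h.trans (map_one σ).symm))
    by_cases h1 : w ∈ U
    · exact ⟨w, hw, h1, hw1⟩
    by_cases h2 : σ w ∈ U
    · exact ⟨σ w, hWσ w hw, h2, hσw1⟩
    refine ⟨w * σ w, mul_mem hw (hWσ w hw), hU w (hWV hw) _ (hWV (hWσ w hw)) h1 h2, fun h => ?_⟩
    refine hw1 (hfix w (hWV hw) ?_)
    rw [← mul_left_cancel_iff (a := w), h, hsq w (hWV hw)]
  simp only [not_forall] at hall
  obtain ⟨n₀, hn₀, w₀, hw₀, hw₀1, hw₀f, w₁, hw₁, hw₁f⟩ := hall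
  let c : W → G := fun x => n₀ * x * n₀⁻¹
  let W₀ : Subgroup G :=
    { carrier := {x | x ∈ W ∧ n₀ * x * n₀⁻¹ = x}
      one_mem' := ⟨one_mem _, by group⟩
      mul_mem' := fun {a b} ha hb => ⟨mul_mem ha.1 hb.1, by rw [← conj_mul, ha.2, hb.2]⟩
      inv_mem' := fun {a} ha => ⟨W.inv_mem ha.1, by rw [← conj_inv, ha.2]⟩ }
  let δ : W →* G :=
    { toFun := fun x => x * (n₀ * x * n₀⁻¹)
      map_one' := by simp
      map_mul' := fun a b => by
        have h := hcom _ (hN n₀ hn₀ _ (hWV a.2)) _ (hWV b.2)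
        rw [Subgroup.coe_mul, ← conj_mul]
        calc (a : G) * b * ((n₀ * a * n₀⁻¹) * (n₀ * b * n₀⁻¹))
            = a * ((b : G) * (n₀ * a * n₀⁻¹)) * (n₀ * b * n₀⁻¹) := by group
          _ = a * ((n₀ * a * n₀⁻¹) * (b : G)) * (n₀ * b * n₀⁻¹) := by rw [h]
          _ = _ := by group }
  let W₁ : Subgroup G := δ.range
  have hW₁W : W₁ ≤ W := by
    rintro _ ⟨x, rfl⟩
    exact mul_mem x.2 (hWN n₀ hn₀ _ x.2)
  have hinf : ∀ z ∈ W₀, z ∈ W₁ → z = 1 := by
    rintro z ⟨hzW, hzf⟩ ⟨⟨x, hx⟩, hxe⟩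
    have hxe' : x * (n₀ * x * n₀⁻¹) = z := hxe
    have h1 : n₀ * x * n₀⁻¹ = x * z := by
      rw [← hxe', ← mul_assoc, hsq x (hWV hx), one_mul]
    have h2 : ∀ i : ℕ, n₀ ^ i * x * (n₀ ^ i)⁻¹ = x * z ^ i := by
      intro i
      induction i with
      | zero => simp
      | succ i hi =>
        have hz : n₀ * z ^ i * n₀⁻¹ = z ^ i := by rw [← conj_pow, hzf]
        rw [pow_succ' n₀, show n₀ * n₀ ^ i * x * (n₀ * n₀ ^ i)⁻¹ =
          n₀ * (n₀ ^ i * x * (n₀ ^ i)⁻¹) * n₀⁻¹ by group, hi, ← conj_mul, h1, hz, mul_assoc,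
          ← pow_succ']
    have h3 := h2 m
    rw [hpow n₀ hn₀ x (hWV hx)] at h3
    have h4 : z ^ m = 1 := mul_eq_left.1 h3.symm
    obtain ⟨j, rfl⟩ := hm
    rwa [pow_succ, pow_mul, pow_two, hsq z (hWV hzW), one_pow, one_mul] at h4
  have hcomσ : ∀ x ∈ W, σ (n₀ * x * n₀⁻¹) = n₀ * σ x * n₀⁻¹ := fun x hx =>
    hσ n₀ hn₀ x (hWV hx)
  have hW₀σ : ∀ x ∈ W₀, σ x ∈ W₀ := fun x hx => ⟨hWσ x hx.1, by rw [← hcomσ x hx.1, hx.2]⟩
  have hW₁σ : ∀ x ∈ W₁, σ x ∈ W₁ := by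
    rintro _ ⟨x, rfl⟩
    exact ⟨⟨σ x, hWσ _ x.2⟩, by
      show σ x * (n₀ * σ x * n₀⁻¹) = σ ((x : G) * (n₀ * x * n₀⁻¹))
      rw [map_mul, hcomσ _ x.2]⟩
  have hW₀N : ∀ n ∈ N, ∀ x ∈ W₀, n * x * n⁻¹ ∈ W₀ := fun n hn x hx =>
    ⟨hWN n hn x hx.1, by rw [hab n₀ hn₀ n hn x (hWV hx.1), hx.2]⟩
  have hW₁N : ∀ n ∈ N, ∀ x ∈ W₁, n * x * n⁻¹ ∈ W₁ := by
    rintro n hn _ ⟨x, rfl⟩
    refine ⟨⟨n * x * n⁻¹, hWN n hn _ x.2⟩, ?_⟩
    show n * x * n⁻¹ * (n₀ * (n * x * n⁻¹) * n₀⁻¹) = n * ((x : G) * (n₀ * x * n₀⁻¹)) * n⁻¹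
    rw [hab n₀ hn₀ n hn x (hWV x.2), conj_mul]
  have hW₀ : W₀ ≠ ⊥ := fun h => hw₀1 (mem_bot.1 (h ▸ (⟨hw₀, hw₀f⟩ : w₀ ∈ W₀)))
  have hW₁ : W₁ ≠ ⊥ := fun h => by
    have h1 : w₁ * (n₀ * w₁ * n₀⁻¹) = 1 := mem_bot.1 (h ▸ (⟨⟨w₁, hw₁⟩, rfl⟩ : _ ∈ W₁))
    refine hw₁f ?_
    rw [← mul_left_cancel_iff (a := w₁), h1, hsq w₁ (hWV hw₁)]
  have hlt : ∀ A : Subgroup G, A ≤ W → A ≠ W → Nat.card A < k := fun A hA hne => by
    by_contra hh
    exact hne (eq_of_le_of_card_ge hA (by omega))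
  obtain ⟨r₀, hr₀W, hr₀U, hr₀1, hr₀⟩ := ih _ (hlt W₀ (fun x hx => hx.1)
    (fun h => hw₁f (h.ge hw₁).2)) W₀ rfl (fun x hx => hWV hx.1) hW₀ hW₀σ hW₀N
  obtain ⟨r₁, hr₁W, hr₁U, hr₁1, hr₁⟩ := ih _ (hlt W₁ hW₁W
    (fun h => hw₀1 (hinf w₀ ⟨hw₀, hw₀f⟩ (h.ge hw₀)))) W₁ rfl (hW₁W.trans hWV) hW₁ hW₁σ hW₁N
  have huniq : ∀ a ∈ W₀, ∀ b ∈ W₁, ∀ a' ∈ W₀, ∀ b' ∈ W₁, a * b = a' * b' → a = a' ∧ b = b' := by
    intro a ha b hb a' ha' b' hb' he
    have h1 : a'⁻¹ * a = b' * b⁻¹ := by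
      rw [eq_mul_inv_iff_mul_eq, mul_assoc, he, inv_mul_cancel_left]
    have h2 := hinf _ (mul_mem (inv_mem ha') ha) (h1 ▸ mul_mem hb' (inv_mem hb))
    have h3 : a = a' := (inv_mul_eq_one.1 h2).symm
    exact ⟨h3, mul_left_cancel (h3 ▸ he)⟩
  -- `W = W₀ W₁`
  have hdec : ∀ w ∈ W, ∃ a ∈ W₀, ∃ b ∈ W₁, w = a * b := by
    intro w hw
    let δ₁ : W₁ →* W₁ :=
      { toFun := fun x => ⟨δ ⟨x, hW₁W x.2⟩, ⟨_, rfl⟩⟩
        map_one' := Subtype.ext (map_one δ)
        map_mul' := fun a b => Subtype.ext (map_mul δ ⟨a, hW₁W a.2⟩ ⟨b, hW₁W b.2⟩) }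
    have hinj : Function.Injective δ₁ := (injective_iff_map_eq_one δ₁).2 fun x hx => by
      have h1 : (x : G) * (n₀ * x * n₀⁻¹) = 1 := congrArg Subtype.val hx
      refine Subtype.ext (hinf x ⟨hW₁W x.2, ?_⟩ x.2)
      rw [← mul_left_cancel_iff (a := (x : G)), h1, hsq _ (hWV (hW₁W x.2))]
    obtain ⟨b, hb⟩ := Finite.surjective_of_injective hinj ⟨δ ⟨w, hw⟩, ⟨_, rfl⟩⟩
    have hb' : (b : G) * (n₀ * b * n₀⁻¹) = w * (n₀ * w * n₀⁻¹) := congrArg Subtype.val hb
    have hbV := hWV (hW₁W b.2)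
    refine ⟨w * b, ⟨mul_mem hw (hW₁W b.2), ?_⟩, b, b.2, ?_⟩
    · rw [← conj_mul]
      calc n₀ * w * n₀⁻¹ * (n₀ * b * n₀⁻¹)
          = w⁻¹ * (w * (n₀ * w * n₀⁻¹)) * (n₀ * b * n₀⁻¹) := by group
        _ = w⁻¹ * b * ((n₀ * b * n₀⁻¹) * (n₀ * b * n₀⁻¹)) := by rw [← hb']; group
        _ = w * b := by
          rw [hsq _ (hN n₀ hn₀ _ hbV), mul_one, inv_eq_of_mul_eq_one_right (hsq w (hWV hw))]
    · rw [mul_assoc, hsq _ hbV, mul_one]
  refine ⟨r₀ * r₁, mul_mem hr₀W.1 (hW₁W hr₁W), mul_mem hr₀U hr₁U, fun h => hr₁1 ?_, ?_⟩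
  · exact (huniq r₀ hr₀W r₁ hr₁W 1 (one_mem _) 1 (one_mem _) (by rw [h, one_mul])).2
  intro n hn he w hw
  rw [← conj_mul] at he
  obtain ⟨h0, h1⟩ := huniq _ (hW₀N n hn r₀ hr₀W) _ (hW₁N n hn r₁ hr₁W) r₀ hr₀W r₁ hr₁W he
  obtain ⟨a, ha, b, hb, rfl⟩ := hdec w hw
  rw [← conj_mul, hr₀ n hn h0 a ha, hr₁ n hn h1 b hb]

variable {σ : MulAut G}

set_option maxHeartbeats 800000 in
/-- No counterexample of least order exists. -/
theorem Fix3.not_minimal (h : Fix3 G σ) (hcomm : ∀ x y : G, σ x = x → σ y = y → x * y = y * x)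
    (hsolv : ∀ X : Subgroup G, X ≠ ⊤ → (∀ x ∈ X, σ x ∈ X) → Group.IsSolvable X)
    (hnorm : ∀ W : Subgroup G, W.Normal → W ≠ ⊥ → (∀ x ∈ W, σ x ∈ W) → W = ⊤) :
    Group.IsSolvable G := by
  by_contra hns
  haveI : Fact (Nat.Prime 2) := ⟨Nat.prime_two⟩
  have heven : 2 ∣ Nat.card G := by
    by_contra hh
    exact hns (FTApps.RealGraph.solvable_of_odd (Nat.not_even_iff_odd.1
      (fun he => hh (even_iff_two_dvd.1 he))))
  obtain ⟨P, hPinv⟩ := h.exists_sylow 2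
  have hP : (P : Subgroup G) ≠ ⊥ := P.ne_bot_of_dvd_card heven
  have hPtop : (P : Subgroup G) ≠ ⊤ := fun ht => hns (by
    haveI : Group.IsNilpotent G := (P.2.of_equiv ((MulEquiv.subgroupCongr ht).trans topEquiv)).isNilpotent
    infer_instance)
  set NP := normalizer ((P : Subgroup G) : Set G)
  have hNPinv : ∀ x ∈ NP, σ x ∈ NP := h.invariant_normalizer hPinv
  have hNPtop : NP ≠ ⊤ := fun ht => hPtop (hnorm _ (normalizer_eq_top_iff.1 ht) hP hPinv)
  have hstep := (h.local_step P NP hNPinv le_normalizer (hsolv _ hNPtop hNPinv)).2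
  have hfus := h.fusion P hPinv hsolv hnorm hP hPtop
  let Z := (P : Subgroup G) ⊓ centralizer ((P : Subgroup G) : Set G)
  have hZc : ∀ x ∈ Z, ∀ y ∈ Z, x * y = y * x := fun x hx y hy =>
    mem_centralizer_iff.1 hy.2 x hx.1
  let V : Subgroup G :=
    { carrier := {x | x ∈ Z ∧ x * x = 1}
      one_mem' := ⟨one_mem _, one_mul _⟩
      mul_mem' := fun {a b} ha hb => ⟨mul_mem ha.1 hb.1, by
        calc a * b * (a * b) = a * (b * a) * b := by group
          _ = a * (a * b) * b := by rw [hZc a ha.1 b hb.1]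
          _ = (a * a) * (b * b) := by group
          _ = 1 := by rw [ha.2, hb.2, one_mul]⟩
      inv_mem' := fun {a} ha => ⟨Z.inv_mem ha.1, by rw [← mul_inv_rev, ha.2, inv_one]⟩ }
  have hVP : V ≤ (P : Subgroup G) := fun x hx => hx.1.1
  have hV1 : V ≠ ⊥ := by
    have hZ : Z ≠ ⊥ := by
      haveI : Nontrivial (P : Subgroup G) := (Subgroup.nontrivial_iff_ne_bot _).2 hP
      haveI := P.2.center_nontrivial
      obtain ⟨z, hz⟩ := exists_ne (1 : center (P : Subgroup G))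
      intro hb
      refine hz (Subtype.ext (Subtype.ext ?_))
      have : ((z : (P : Subgroup G)) : G) ∈ Z :=
        ⟨(z : (P : Subgroup G)).2, mem_centralizer_iff.2 fun y hy =>
          congrArg Subtype.val (mem_center_iff.1 z.2 ⟨y, hy⟩)⟩
      rwa [hb, mem_bot] at this
    obtain ⟨x, hx⟩ := exists_prime_orderOf_dvd_card' (G := Z) 2
      ((P.2.to_le inf_le_left).card_eq_or_dvd.resolve_left fun h1 => hZ (card_eq_one.1 h1))
    intro hb
    have hxV : (x : G) ∈ V :=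
      ⟨x.2, by rw [← pow_two, ← SubmonoidClass.coe_pow, orderOf_dvd_iff_pow_eq_one.1 hx.dvd,
        OneMemClass.coe_one]⟩
    rw [hb, mem_bot, OneMemClass.coe_eq_one] at hxV
    rw [hxV, orderOf_one] at hx
    omega
  have hsq : ∀ v ∈ V, v * v = 1 := fun v hv => hv.2
  have hVc : ∀ v ∈ V, ∀ w ∈ V, v * w = w * v := fun v hv w hw => hZc v hv.1 w hw.1
  have hNV : ∀ n ∈ NP, ∀ v ∈ V, n * v * n⁻¹ ∈ V := fun n hn v hv => by
    refine ⟨⟨(mem_normalizer_iff.1 hn v).1 hv.1.1, mem_centralizer_iff.2 fun y hy => ?_⟩, ?_⟩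
    · have hy' := (mem_normalizer_iff.1 (inv_mem hn) y).1 hy
      have h1 := mem_centralizer_iff.1 hv.1.2 _ hy'
      calc y * (n * v * n⁻¹) = n * ((n⁻¹ * y * n⁻¹⁻¹) * v) * n⁻¹ := by group
        _ = n * (v * (n⁻¹ * y * n⁻¹⁻¹)) * n⁻¹ := by rw [h1]
        _ = _ := by group
    · rw [conj_mul, hv.2, mul_one, mul_inv_cancel]
  have hVσ : ∀ v ∈ V, σ v ∈ V := fun v hv =>
    ⟨h.invariant_center_part hPinv v hv.1, by rw [← map_mul, hv.2, map_one]⟩
  have hVfix : ∀ v ∈ V, σ v = v → v = 1 := fun v hv he => by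
    by_contra hne
    have h2 : orderOf v = 2 := orderOf_eq_prime (by rw [pow_two, hv.2]) hne
    have h3 := h.odd v he
    rw [h2] at h3
    exact absurd h3 (by decide)
  have hagree : ∀ g ∈ normalizer (V : Set G), ∃ n ∈ NP, ∀ v ∈ V, n * v * n⁻¹ = g * v * g⁻¹ :=
    fun g hg => hfus (V : Set G) hVP g fun v hv => hVP ((mem_normalizer_iff.1 hg v).1 hv)
  have hσN : ∀ n ∈ NP, ∀ v ∈ V, σ (n * v * n⁻¹) = n * σ v * n⁻¹ := fun n hn v hv => by
    have h1 := hstep n hn hn (hNPinv n hn) (σ v) (hVP (hVσ v hv)) (hVσ v hv).1.2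
    rw [map_mul, map_mul, map_inv]
    conv_rhs => rw [← h1]
    group
  -- the fixed points of `σ` cover the action of `N(P)` on `V`
  have hfixn : ∀ n ∈ NP, ∃ x, σ x = x ∧ ∀ v ∈ V, x * v * x⁻¹ = n * v * n⁻¹ := by
    intro n hn
    let K := NP ⊓ centralizer (V : Set G)
    have hK : ∀ x ∈ K, σ x ∈ K := fun x hx => ⟨hNPinv x hx.1, mem_centralizer_iff.2 fun v hv => by
      have h1 := congrArg σ (mem_centralizer_iff.1 hx.2 _ (hVσ _ (hVσ v hv)))
      rwa [map_mul, map_mul, h.cube] at h1⟩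
    obtain ⟨x, hx, hnx⟩ := h.exists_fixed_coset K hK (g := n)
      (mem_inf.2 ⟨mul_mem (inv_mem hn) (hNPinv n hn), mem_centralizer_iff.2 fun v hv =>
        (conj_eq_iff.1 (hstep n hn hn (hNPinv n hn) v (hVP hv) hv.1.2)).symm⟩)
    refine ⟨x, hx, fun v hv => ?_⟩
    have h1 := conj_eq_iff.2 (mem_centralizer_iff.1 hnx.2 v hv).symm
    conv_rhs => rw [← h1]
    group
  have hab : ∀ n ∈ NP, ∀ n' ∈ NP, ∀ v ∈ V,
      n * (n' * v * n'⁻¹) * n⁻¹ = n' * (n * v * n⁻¹) * n'⁻¹ := by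
    intro n hn n' hn' v hv
    obtain ⟨x, hx, hxe⟩ := hfixn n hn
    obtain ⟨y, hy, hye⟩ := hfixn n' hn'
    rw [← hxe _ (hNV n' hn' v hv), ← hye v hv, ← hye _ (hNV n hn v hv), ← hxe v hv]
    calc x * (y * v * y⁻¹) * x⁻¹ = x * y * v * (x * y)⁻¹ := by group
      _ = y * x * v * (y * x)⁻¹ := by rw [hcomm x y hx hy]
      _ = _ := by group
  let PN : Sylow 2 NP := P.subtype le_normalizer
  have hpow : ∀ n ∈ NP, ∀ v ∈ V,
      n ^ (PN : Subgroup NP).index * v * (n ^ (PN : Subgroup NP).index)⁻¹ = v := by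
    intro n hn v hv
    haveI : (PN : Subgroup NP).Normal := normal_in_normalizer
    have h1 : n ^ (PN : Subgroup NP).index ∈ (P : Subgroup G) :=
      pow_index_mem (PN : Subgroup NP) (⟨n, hn⟩ : NP)
    exact conj_eq_iff.2 (mem_centralizer_iff.1 hv.1.2 _ h1)
  have hodd : Odd (PN : Subgroup NP).index :=
    Nat.not_even_iff_odd.1 fun he => PN.not_dvd_index (even_iff_two_dvd.1 he)
  let R : Set G := {r | r ∈ V ∧ r ≠ 1 ∧ ∀ n ∈ NP, n * r * n⁻¹ = r → ∀ v ∈ V, n * v * n⁻¹ = v}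
  have hCV : Group.IsSolvable (centralizer (V : Set G)) := by
    refine hsolv _ (fun ht => ?_) fun x hx => mem_centralizer_iff.2 fun v hv => ?_
    · have hcen : center G ≠ ⊥ := fun hb => hV1 (eq_bot_iff.2 fun v hv => hb ▸
        mem_center_iff.2 fun g => (mem_centralizer_iff.1 (ht ▸ mem_top g) v hv).symm)
      have h1 := hnorm (center G) inferInstance hcen (h.invariant_of_char _)
      exact hns (Group.isSolvable_of_comm fun a b =>
        mem_center_iff.1 (h1 ▸ mem_top b : b ∈ center G) a)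
    · have h1 := congrArg σ (mem_centralizer_iff.1 hx _ (hVσ _ (hVσ v hv)))
      rwa [map_mul, map_mul, h.cube] at h1
  have hsolR : ∀ r ∈ R, Group.IsSolvable (centralizer ({r} : Set G)) := by
    intro r hr
    set C := centralizer ({r} : Set G) with hC
    set O := Cfsg.pPrimeCore 2 C
    have hPC : (P : Subgroup G) ≤ C := fun p hp =>
      mem_centralizer_singleton_iff.2 (mem_centralizer_iff.1 hr.1.1.2 p hp)
    let PC : Sylow 2 C := P.subtype hPC
    set V' := V.subgroupOf C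
    have hconj : ∀ (c : C) (v : G), v ∈ V → (c : G) * v * (c : G)⁻¹ ∈ (P : Subgroup G) →
        (c : G) * v * (c : G)⁻¹ = v := by
      intro c v hv hcv
      have hcr : (c : G) * r * (c : G)⁻¹ = r := mem_centralizer_one_iff.1 c.2
      obtain ⟨n, hn, hne⟩ := hfus {r, v}
        (by rintro a (rfl | rfl); exacts [hVP hr.1, hVP hv]) c
        (by rintro a (rfl | rfl); exacts [by rw [hcr]; exact hVP hr.1, hcv])
      rw [← hne v (by simp)]
      exact hr.2.2 n hn ((hne r (by simp)).trans hcr) v hv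
    have hstar : ∀ v ∈ V', ∀ c : C, v * c * v⁻¹ * c⁻¹ ∈ O := by
      intro v hv c
      by_cases hv1 : v = 1
      · subst hv1; simp
      obtain ⟨N, hN, hNodd, hmem⟩ := Involution.ZStar.exists_odd_normal_of_sylow PC
        (t := v) (orderOf_eq_prime (by rw [pow_two]; exact Subtype.ext (hsq _ hv)) hv1)
        (show (v : G) ∈ (P : Subgroup G) from hVP hv)
        (fun g hg => Subtype.ext (hconj g v hv hg))
      haveI := hN
      exact Cores.le_pPrimeCore (Nat.coprime_two_right.2 hNodd) (hmem c)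
    have hV'2 : IsPGroup 2 V' := (P.2.to_le hVP).comap_of_injective C.subtype C.subtype_injective
    have hdec : ∀ c : C, ∃ o ∈ O, ((o * c : C) : G) ∈ centralizer (V : Set G) := by
      intro c
      have hle : V'.map (MulAut.conj c).toMonoidHom ≤ O ⊔ V' := Coprime.conj_map_le_iff.2 fun v hv => by
        rw [show c * v * c⁻¹ = (v * c * v⁻¹ * c⁻¹)⁻¹ * v by group]
        exact mul_mem (mem_sup_left (inv_mem (hstar v hv c))) (mem_sup_right hv)
      obtain ⟨o, ho, he⟩ := Coprime.exists_conj_eq (N := O)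
        (H := V'.map (MulAut.conj c).toMonoidHom) (K := V')
        (.inr (by haveI := (hV'2.map (MulAut.conj c).toMonoidHom).isNilpotent; infer_instance))
        (by rw [normalizer_eq_top]; exact le_top) (by rw [normalizer_eq_top]; exact le_top) hle
        (Coprime.card_conj_map _ _)
        (Components.coprime_card_of_isPGroup (hV'2.map _) (Cores.coprime_card_pPrimeCore 2)).symm
      rw [Coprime.conj_map_map] at he
      refine ⟨o, ho, mem_centralizer_iff.2 fun v hv => ?_⟩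
      have hvC : v ∈ C := hPC (hVP hv)
      have h1 : o * c * ⟨v, hvC⟩ * (o * c)⁻¹ ∈ V' := he.le ⟨⟨v, hvC⟩, hv, rfl⟩
      exact (conj_eq_iff.1 (hconj (o * c) v hv (hVP h1))).symm
    haveI := hCV
    let X := (centralizer (V : Set G)).subgroupOf C
    haveI : Group.IsSolvable X := by
      refine Group.isSolvable_of_isSolvable_injective
        (f := (C.subtype.comp X.subtype).codRestrict (centralizer (V : Set G)) fun x => x.2) ?_
      exact fun a b he => Subtype.ext (Subtype.ext (congrArg Subtype.val he :))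
    haveI : Group.IsSolvable O := FTApps.RealGraph.solvable_of_odd
      (Nat.coprime_two_right.1 (Cores.coprime_card_pPrimeCore 2))
    haveI : Group.IsSolvable (C ⧸ O) := by
      refine Group.isSolvable_of_surjective (f := (QuotientGroup.mk' O).comp X.subtype) fun y => ?_
      obtain ⟨c, rfl⟩ := QuotientGroup.mk'_surjective O y
      obtain ⟨o, ho, hoc⟩ := hdec c
      refine ⟨⟨o * c, hoc⟩, ?_⟩
      show QuotientGroup.mk' O (o * c) = _
      rw [map_mul, show QuotientGroup.mk' O o = 1 from (QuotientGroup.eq_one_iff o).2 ho, one_mul]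
    exact Group.isSolvable_of_ker_le_range O.subtype (QuotientGroup.mk' O) (by simp)
  have hd : Data P V R σ :=
    { le := hVP
      cen := fun p hp => mem_centralizer_iff.2 fun v hv => (mem_centralizer_iff.1 hv.1.2 p hp).symm
      elem := ⟨⟨⟨fun a b => Subtype.ext (hVc _ a.2 _ b.2)⟩⟩,
        fun a ha => by rw [pow_two]; exact hsq a ha⟩
      closed := fun v hv g hg => by
        obtain ⟨n, hn, hne⟩ := hfus {v} (by rintro a rfl; exact hVP hv) g
          (by rintro a rfl; exact hg)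
        rw [← hne v rfl]
        exact hNV n hn v hv
      sub := fun r hr => ⟨hr.1, hr.2.1⟩
      solv := hsolR
      hyper := fun U hUV hU => by
        obtain ⟨r, hrV, hrU, hr1, hr⟩ := exists_regular_mem V U NP hsq hVc hNV hab hσN hVfix
          _ hodd hpow (fun v hv w hw hv' hw' => by
            rcases Nat.eq_or_lt_of_le hU with h2 | h2
            · exact (mul_mem_iff_of_index_two (H := U.subgroupOf V) h2
                (a := ⟨v, hv⟩) (b := ⟨w, hw⟩)).2 (iff_of_false hv' hw')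
            · have h3 : U.relIndex V ≠ 0 := index_ne_zero_of_finite
              exact absurd (relIndex_eq_one.1 (by omega) hv) hv')
          _ V rfl le_rfl hV1 hVσ hNV
        exact ⟨r, ⟨hrV, hr1, hr⟩, hrU⟩
      three := h.three
      maps := hVσ
      mul := fun v _ w _ => map_mul σ v w
      cube := fun v _ => h.cube v
      fixed := hVfix
      comm := fun g hg v hv => by
        obtain ⟨n, hn, hne⟩ := hagree g hg
        rw [← hne v hv, hσN n hn v hv, hne _ (hVσ v hv)]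
      invR := fun r hr => ⟨hVσ r hr.1, fun he => hr.2.1 (σ.injective (he.trans (map_one σ).symm)),
        fun n hn he v hv => hr.2.2 n hn (σ.injective (by rw [hσN n hn r hr.1, he])) v hv⟩ }
  have hU := hd.le_pPrimePCore
  haveI : (Cfsg.pPrimePCore 2 G).Normal := by unfold Cfsg.pPrimePCore; infer_instance
  have hUtop := hnorm (Cfsg.pPrimePCore 2 G) inferInstance
    (fun hb => hV1 (eq_bot_iff.2 (hb ▸ hU))) (h.invariant_pPrimePCore 2)
  have hO : Cfsg.pPrimeCore 2 G = ⊥ := by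
    by_contra hne
    have ht := hnorm _ inferInstance hne (h.invariant_of_char _)
    have h1 := Cores.coprime_card_pPrimeCore (G := G) 2
    rw [ht, card_top] at h1
    exact (Nat.prime_two.coprime_iff_not_dvd.1 h1.symm) heven
  have h2 : IsPGroup 2 (Cfsg.pPrimePCore 2 G) :=
    (Cores.isPGroup_pCore 2).comap_of_injective _
      (by rw [← MonoidHom.ker_eq_bot_iff, QuotientGroup.ker_mk', hO])
  rw [hUtop] at h2
  exact hPtop (P.3 h2 le_top).symm

theorem Fix3.isSolvable_aux : ∀ (n : ℕ) (G : Type u) [Group G] [Finite G], Nat.card G = n →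
    ∀ σ : MulAut G, Fix3 G σ → (∀ x y : G, σ x = x → σ y = y → x * y = y * x) →
      Group.IsSolvable G := by
  intro n
  induction n using Nat.strong_induction_on with
  | _ n ih =>
  intro G _ _ hn σ h hcomm
  subst hn
  have hsolv : ∀ X : Subgroup G, X ≠ ⊤ → (∀ x ∈ X, σ x ∈ X) → Group.IsSolvable X := fun X hX hinv => by
    refine ih _ ?_ X rfl _ (h.sub X hinv) fun x y hx hy => Subtype.ext
      (hcomm x y (congrArg Subtype.val hx) (congrArg Subtype.val hy))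
    exact lt_of_le_of_ne (card_le_card_group X) fun he => hX ((card_eq_iff_eq_top X).1 he)
  by_cases hnorm : ∀ W : Subgroup G, W.Normal → W ≠ ⊥ → (∀ x ∈ W, σ x ∈ W) → W = ⊤
  · exact h.not_minimal hcomm hsolv hnorm
  simp only [not_forall] at hnorm
  obtain ⟨W, hWn, hW1, hWinv, hWtop⟩ := hnorm
  haveI := hsolv W hWtop hWinv
  haveI : Group.IsSolvable (G ⧸ W) := by
    refine ih _ ?_ (G ⧸ W) rfl _ (h.quot W hWinv) fun x y hx hy => ?_
    · rw [card_eq_card_quotient_mul_card_subgroup W]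
      exact lt_mul_of_one_lt_right Nat.card_pos ((Subgroup.one_lt_card_iff_ne_bot _).2 hW1)
    · obtain ⟨a, ha, rfl⟩ := h.exists_fixed_lift W hWinv hx
      obtain ⟨b, hb, rfl⟩ := h.exists_fixed_lift W hWinv hy
      rw [← map_mul, ← map_mul, hcomm a b ha hb]
  exact Group.isSolvable_of_ker_le_range W.subtype (QuotientGroup.mk' W) (by simp)

/-- An automorphism of order three whose fixed points commute and have odd order forces
solvability of a group of order prime to three. -/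
theorem Fix3.isSolvable {σ : MulAut G} (h : Fix3 G σ)
    (hcomm : ∀ x y : G, σ x = x → σ y = y → x * y = y * x) : Group.IsSolvable G :=
  Fix3.isSolvable_aux _ G rfl σ h hcomm

end CfsgLib.OrbitClosed
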